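import Cfsg.Agent.U6.Defs
import Cfsg.Agent.Local.Sub

/-! From the group `H = A K` to the module and back. -/

set_option autoImplicit false
set_option linter.unusedSectionVars false

namespace Cfsg.Agent.U6

open Subgroup Cfsg.Agent.Local Cfsg.Agent.Amalg

universe u v

variable {X : Type u} [Group X] [Finite X]

/-- The group theoretic data. -/
structure Br (A K K0 : Subgroup X) : Prop where
  card : Nat.card A = 2 ^ 20
  sq : ∀ a ∈ A, a * a = 1
  sup : A ⊔ K = normalizer (A : Set X)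
  inf : A ⊓ K = ⊥
  le : K0 ≤ K
  nrm : ∀ k ∈ K, ∀ x ∈ K0, k * x * k⁻¹ ∈ K0
  idx : ∀ x ∈ K, ∀ y ∈ K, x ∉ K0 → y ∉ K0 → x * y ∈ K0
  dvd : Nat.card K ∣ 2 * Nat.card K0
  cen : ∀ k ∈ K, k ∉ K0 → ¬ ∀ x ∈ K0, k * x = x * k
  min : ∀ B : Subgroup X, B ≤ A → (∀ h ∈ normalizer (A : Set X), ∀ b ∈ B, h * b * h⁻¹ ∈ B) →
    B = ⊥ ∨ B = A

theorem sq_of_min {A : Subgroup X} (hA : Nat.card A = 2 ^ 20)
    (hmin : ∀ B : Subgroup X, B ≤ A → (∀ h ∈ normalizer (A : Set X), ∀ b ∈ B, h * b * h⁻¹ ∈ B) →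
      B = ⊥ ∨ B = A) : ∀ a ∈ A, a * a = 1 := by
  let B : Subgroup X :=
    { carrier := {a | a ∈ A ∧ (∀ b ∈ A, a * b = b * a) ∧ a * a = 1}
      one_mem' := ⟨one_mem _, by simp, by simp⟩
      mul_mem' := fun {a b} ha hb => ⟨mul_mem ha.1 hb.1, fun c hc => by
        rw [mul_assoc, hb.2.1 c hc, ← mul_assoc, ha.2.1 c hc, mul_assoc], by
        rw [mul_assoc, ← mul_assoc b, hb.2.1 a ha.1, mul_assoc, hb.2.2, mul_one, ha.2.2]⟩
      inv_mem' := fun {a} ha => by rwa [inv_eq_of_mul_eq_one_right ha.2.2] }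
  have hp : IsPGroup 2 A := IsPGroup.of_card hA
  have : Nontrivial A := Finite.one_lt_card_iff_nontrivial.1 (by rw [hA]; norm_num)
  have := hp.center_nontrivial
  obtain ⟨n, hn, e⟩ := (hp.to_subgroup (center A)).nontrivial_iff_card.1 this
  obtain ⟨z, hz⟩ := exists_prime_orderOf_dvd_card' (G := center A) 2 (e ▸ dvd_pow_self 2 hn.ne')
  rcases hmin B (fun a ha => ha.1) (fun h hh b hb => ⟨conj_mem_of_mem_normalizer hh hb.1,
    fun c hc => by
      have := hb.2.1 _ (conj_mem_of_mem_normalizer (inv_mem hh) hc)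
      calc h * b * h⁻¹ * c = h * (b * (h⁻¹ * c * h⁻¹⁻¹)) * h⁻¹ := by group
        _ = _ := by rw [this]; group,
    by rw [conj_mul, hb.2.2]; simp⟩) with e | e
  · have h1 : (z.1.1 : X) ∈ B := ⟨z.1.2, fun b hb =>
      congrArg Subtype.val (mem_center_iff.1 z.2 ⟨b, hb⟩).symm, by
        have := pow_orderOf_eq_one z
        rw [hz, pow_two] at this
        exact congrArg (fun w : center A => (w.1 : X)) this⟩
    rw [e, mem_bot] at h1
    rw [show z = 1 from Subtype.ext (Subtype.ext h1)] at hz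
    simp at hz
  · exact fun a ha => (e.ge ha).2.2

theorem cN_conj {A : Subgroup X} {h : X} (hh : h ∈ normalizer (A : Set X)) (g : X) :
    cN A (h * g * h⁻¹) = cN A g := by
  unfold cN
  symm
  exact Nat.card_congr
    { toFun := fun a => ⟨h * a.1 * h⁻¹, conj_mem_of_mem_normalizer hh a.2.1,
        mem_centralizer_singleton_iff.2 (by
          rw [conj_mul, conj_mul, mem_centralizer_singleton_iff.1 a.2.2])⟩
      invFun := fun a => ⟨h⁻¹ * a.1 * h, by
        simpa using conj_mem_of_mem_normalizer (inv_mem hh) a.2.1,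
        mem_centralizer_singleton_iff.2 (by
          have := mem_centralizer_singleton_iff.1 a.2.2
          calc h⁻¹ * a.1 * h * g = h⁻¹ * (a.1 * (h * g * h⁻¹)) * h := by group
            _ = _ := by rw [this]; group)⟩
      left_inv := fun a => by ext; simp [mul_assoc]
      right_inv := fun a => by ext; simp [mul_assoc] }

namespace Br

variable {A K K0 : Subgroup X} (b : Br A K K0)
include b

theorem inv {a : X} (ha : a ∈ A) : a⁻¹ = a := inv_eq_of_mul_eq_one_right (b.sq a ha)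

theorem comm {a c : X} (ha : a ∈ A) (hc : c ∈ A) : a * c = c * a := by
  rw [← b.inv (mul_mem ha hc), mul_inv_rev, b.inv ha, b.inv hc]

theorem leN : K ≤ normalizer (A : Set X) := b.sup ▸ le_sup_right

theorem cj {k a : X} (hk : k ∈ K) (ha : a ∈ A) : k * a * k⁻¹ ∈ A :=
  conj_mem_of_mem_normalizer (b.leN hk) ha

theorem dec {h : X} (hh : h ∈ normalizer (A : Set X)) : ∃ a ∈ A, ∃ k ∈ K, a * k = h :=
  (mem_sup_of_right_le_normalizer b.leN).1 (b.sup ▸ hh)

theorem dec0 {h : X} (hh : h ∈ A ⊔ K0) : ∃ a ∈ A, ∃ k ∈ K0, a * k = h :=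
  (mem_sup_of_right_le_normalizer (b.le.trans b.leN)).1 hh

theorem cj_mul {a c : X} (ha : a ∈ A) (hc : c ∈ A) {k : X} (hk : k ∈ K) :
    a * k * c * (a * k)⁻¹ = k * c * k⁻¹ := by
  rw [show a * k * c * (a * k)⁻¹ = a * (k * c * k⁻¹) * a⁻¹ by group, b.comm ha (b.cj hk hc),
    mul_inv_cancel_right]

theorem cN_mul {a : X} (ha : a ∈ A) (k : X) : cN A (a * k) = cN A k := by
  unfold cN
  congr 2
  ext c
  simp only [mem_inf, mem_centralizer_singleton_iff]
  refine and_congr_right fun hc => ?_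
  rw [← mul_assoc, b.comm hc ha, mul_assoc, mul_assoc, mul_left_cancel_iff]

theorem pow_eq {a k : X} (ha : a ∈ A) (hk : k ∈ K) {n : ℕ} (h : (a * k) ^ n = 1) : k ^ n = 1 := by
  have key : ∀ n : ℕ, (a * k) ^ n * (k ^ n)⁻¹ ∈ A := fun n => by
    induction n with
    | zero => simp
    | succ n ih =>
      rw [show (a * k) ^ (n + 1) * (k ^ (n + 1))⁻¹ = a * (k * ((a * k) ^ n * (k ^ n)⁻¹) * k⁻¹) by
        rw [pow_succ', pow_succ']; group]
      exact mul_mem ha (b.cj hk ih)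
  have h1 := key n
  rw [h, one_mul, inv_mem_iff] at h1
  exact mem_bot.1 (b.inf ▸ mem_inf.2 ⟨h1, pow_mem hk n⟩)

theorem odd_part {h : X} (hh : h ∈ normalizer (A : Set X)) {p : ℕ} (hp : p.Prime) (h2 : Odd p)
    (o : orderOf h = p) : ∃ k : K0, orderOf k = p ∧ cN A h = cN A k := by
  have := Fact.mk hp
  obtain ⟨a, ha, k, hk, rfl⟩ := b.dec hh
  have h1 : k ^ p = 1 := b.pow_eq ha hk (o ▸ pow_orderOf_eq_one _)
  have h3 : k ∈ K0 := by
    by_contra h3
    obtain ⟨m, rfl⟩ := h2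
    have := pow_mem (b.idx k hk k hk h3 h3) m
    rw [← pow_two, ← pow_mul, eq_inv_of_mul_eq_one_left (by rwa [pow_succ] at h1 : k ^ (2 * m) * k = 1),
      inv_mem_iff] at this
    exact h3 this
  refine ⟨⟨k, h3⟩, by
    rw [orderOf_mk]
    refine orderOf_eq_prime h1 fun e => ?_
    have h4 : p ∣ 2 := o ▸ orderOf_dvd_of_pow_eq_one (by rw [e, mul_one, pow_two, b.sq a ha])
    rw [(Nat.prime_dvd_prime_iff_eq hp Nat.prime_two).1 h4] at h2
    exact absurd h2 (by decide), b.cN_mul ha k⟩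

theorem not_cent : ¬ ∀ k ∈ K0, ∀ a ∈ A, k * a * k⁻¹ = a := by
  intro h
  obtain ⟨c, hc, c1, hk⟩ : ∃ c ∈ A, c ≠ 1 ∧ ∀ k ∈ K, k * c * k⁻¹ = c := by
    by_cases h1 : ∀ k ∈ K, ∀ a ∈ A, k * a * k⁻¹ = a
    · obtain ⟨c, hc, c1⟩ := (bot_or_exists_ne_one A).resolve_left fun e => by
        have := b.card
        rw [e, card_bot] at this
        norm_num at this
      exact ⟨c, hc, c1, fun k hk => h1 k hk c hc⟩
    push Not at h1
    obtain ⟨k, hk, a, ha, h1⟩ := h1
    have hk0 : k ∉ K0 := fun e => h1 (h k e a ha)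
    have h2 := mul_mem ha (b.cj hk ha)
    refine ⟨_, h2, fun e => h1 (by rw [← b.inv ha]; nth_rw 1 [b.inv ha]; exact eq_inv_of_mul_eq_one_right e),
      fun k' hk' => ?_⟩
    by_cases h3 : k' ∈ K0
    · exact h k' h3 _ h2
    · have e1 : k * (a * (k * a * k⁻¹)) * k⁻¹ = a * (k * a * k⁻¹) := by
        rw [show k * (a * (k * a * k⁻¹)) * k⁻¹ = k * a * k⁻¹ * (k * k * a * (k * k)⁻¹) by group,
          h _ (b.idx k hk k hk hk0 hk0) a ha, b.comm ha (b.cj hk ha)]
      have e2 := h _ (b.idx k' hk' k hk h3 hk0) _ h2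
      rwa [show ∀ w, k' * k * w * (k' * k)⁻¹ = k' * (k * w * k⁻¹) * k'⁻¹ from fun w => by group,
        e1] at e2
  rcases b.min (zpowers c) (zpowers_le_of_mem hc) (fun g hg d hd => by
    obtain ⟨a, ha, k, hk', rfl⟩ := b.dec hg
    obtain ⟨j, rfl⟩ := hd
    simp only
    rw [b.cj_mul ha (zpow_mem hc j) hk', ← conj_zpow, hk k hk']
    exact ⟨j, rfl⟩) with e | e
  · exact c1 (zpowers_eq_bot.1 e)
  · have h1 : orderOf c ∣ 2 := orderOf_dvd_of_pow_eq_one (by rw [pow_two, b.sq c hc])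
    rw [← Nat.card_zpowers, e, b.card] at h1
    exact absurd h1 (by norm_num)

/-- `A` as an additive group. -/
@[reducible] def acg : AddCommGroup (Additive A) :=
  { (inferInstance : AddGroup (Additive A)) with
    add_comm := fun x y => congrArg Additive.ofMul (Subtype.ext (b.comm x.toMul.2 y.toMul.2)) }

/-- The conjugation action. -/
@[reducible] def act : DistribMulAction K0 (Additive A) where
  smul k v := Additive.ofMul ⟨k * v.toMul * (k : X)⁻¹, b.cj (b.le k.2) v.toMul.2⟩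
  one_smul v := congrArg Additive.ofMul (Subtype.ext (by
    change ((1 : K0) : X) * v.toMul * ((1 : K0) : X)⁻¹ = v.toMul
    simp))
  mul_smul k l v := congrArg Additive.ofMul (Subtype.ext (by
    change ((k * l : K0) : X) * v.toMul * ((k * l : K0) : X)⁻¹ =
      k * (l * v.toMul * (l : X)⁻¹) * (k : X)⁻¹
    simp [mul_assoc]))
  smul_zero k := congrArg Additive.ofMul (Subtype.ext (by
    change (k : X) * 1 * (k : X)⁻¹ = 1
    simp))
  smul_add k v w := congrArg Additive.ofMul (Subtype.ext (by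
    change (k : X) * (v.toMul * w.toMul) * (k : X)⁻¹ =
      k * v.toMul * (k : X)⁻¹ * (k * w.toMul * (k : X)⁻¹)
    simp [mul_assoc]))

theorem smul_eq_iff (k : K0) (v w : Additive A) :
    letI := b.act; k • v = w ↔ (k : X) * v.toMul * (k : X)⁻¹ = w.toMul :=
  ⟨fun h => congrArg (fun u : Additive A => (u.toMul : X)) h,
    fun h => congrArg Additive.ofMul (Subtype.ext h)⟩

theorem fixN_eq (k : K0) : letI := b.acg; letI := b.act; fixN (Additive A) k = cN A k :=
  Nat.card_congr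
    { toFun := fun v => ⟨v.1.toMul, v.1.toMul.2, mem_centralizer_singleton_iff.2
        (mul_inv_eq_iff_eq_mul.1 ((b.smul_eq_iff k _ _).1 v.2)).symm⟩
      invFun := fun a => ⟨Additive.ofMul ⟨a.1, a.2.1⟩, (b.smul_eq_iff k _ _).2
        (mul_inv_eq_iff_eq_mul.2 (mem_centralizer_singleton_iff.1 a.2.2).symm)⟩
      left_inv := fun _ => rfl
      right_inv := fun _ => rfl }

theorem setup (F : Type v) [Field F] [Fintype F] [hF : Fact (Fintype.card F = 2 ^ 2)]
    (e : K0 ≃* Cfsg.PSU 6 F 2) :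
    letI := b.acg; letI := b.act; Nonempty (Setup F K0 (Additive A)) := by
  let _ := b.acg
  let _ := b.act
  let π : SU 6 F 2 →* K0 := e.symm.toMonoidHom.comp (QuotientGroup.mk' _)
  have hs : Function.Surjective π := e.symm.surjective.comp (QuotientGroup.mk'_surjective _)
  have hz : ∀ z : SU 6 F 2, (∃ l : F, ∀ v : Fin 6 → F, z • v = l • v) → π z = 1 := by
    rintro z ⟨l, hl⟩
    have : QuotientGroup.mk' (center (SU 6 F 2)) z = 1 :=
      (QuotientGroup.eq_one_iff z).2 (mem_center_iff.2 fun x => (scalar_comm hl x).symm)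
    simp only [π, MonoidHom.comp_apply, this, map_one]
  have h2 : (2 : F) = 0 := by
    have := FiniteField.cast_card_eq_zero F
    rw [hF.out] at this
    exact pow_eq_zero_iff two_ne_zero |>.1 (by exact_mod_cast this)
  obtain ⟨om, h0, h1⟩ : ∃ om : F, om ≠ 0 ∧ om ≠ 1 := by
    classical
    by_contra hc
    push Not at hc
    have : (Finset.univ : Finset F) ⊆ {0, 1} := fun x _ => by
      by_cases h : x = 0 <;> simp [h, hc x]
    have := (Finset.card_le_card this).trans Finset.card_le_two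
    rw [Finset.card_univ, hF.out] at this
    omega
  have h3 := FiniteField.pow_card_sub_one_eq_one om h0
  rw [hF.out] at h3
  refine ⟨⟨π, hs, hz, fun g hg => ?_, fun v => congrArg Additive.ofMul
    (Subtype.ext (b.sq _ v.toMul.2)), b.card, ?_, om, ?_⟩⟩
  · rcases su_normal (by norm_num) ((MulAction.toPermHom K0 (Additive A)).comp π).ker with h | h
    · obtain ⟨z, rfl⟩ := hs g
      exact hz z (h z (Equiv.ext hg))
    · refine absurd (fun k hk a ha => ?_) b.not_cent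
      obtain ⟨z, e⟩ := hs ⟨k, hk⟩
      have h4 : MulAction.toPermHom K0 (Additive A) (π z) = 1 := h.ge (mem_top z)
      rw [e] at h4
      exact (b.smul_eq_iff _ _ _).1 (congrArg (fun f : Equiv.Perm _ => f (Additive.ofMul ⟨a, ha⟩)) h4)
  · by_contra hc
    push Not at hc
    exact b.not_cent fun k hk a _ => by
      rw [show k = 1 from congrArg Subtype.val (hc ⟨k, hk⟩)]; simp
  · apply mul_left_cancel₀ (sub_ne_zero.2 h1)
    linear_combination h3 - (om ^ 2 - 1) * h2

theorem nine {x y : K0} (h : Nine x y) : Nine (x : X) y :=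
  ⟨congrArg Subtype.val h.x3, congrArg Subtype.val h.y3, congrArg Subtype.val h.comm,
    fun i j hi hj e => h.ind i j hi hj (Subtype.ext e)⟩

theorem codim (M : letI := b.acg; letI := b.act; ModFacts K0 (Additive A)) {h : X}
    (hh : h ∈ normalizer (A : Set X)) (hA : h ∉ A) : cN A h ≤ 2 ^ 16 := by
  let _ := b.acg
  let _ := b.act
  obtain ⟨a, ha, k, hk, rfl⟩ := b.dec hh
  rw [b.cN_mul ha]
  obtain ⟨t, ht, hne⟩ : ∃ t : K0, IsTr (Additive A) t ∧ k * t ≠ t * k := by
    by_contra hc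
    push Not at hc
    have h1 : ∀ x : K0, k * x = x * k := fun x => by
      have h2 : closure {t : K0 | IsTr (Additive A) t} ≤ (centralizer {k}).subgroupOf K0 :=
        (closure_le _).2 fun t ht => mem_centralizer_singleton_iff.2 (hc t ht).symm
      exact (mem_centralizer_singleton_iff.1 (h2 (M.gen ▸ mem_top x))).symm
    by_cases h0 : k ∈ K0
    · have := congrArg Subtype.val (M.cent ⟨k, h0⟩ fun g => Subtype.ext (h1 g))
      exact hA (by rw [show k = 1 from this, mul_one]; exact ha)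
    · exact b.cen k hk h0 fun x hx => h1 ⟨x, hx⟩
  have tt : (t : X) * t = 1 := congrArg Subtype.val ht.1
  have h1 := M.pair ⟨k * t * k⁻¹, b.nrm k hk t t.2⟩ t
    ⟨Subtype.ext (by change k * t * k⁻¹ * (k * t * k⁻¹) = 1; rw [conj_mul, tt]; simp),
      fun e => ht.2.1 (Subtype.ext (by simpa using congrArg Subtype.val e)), by
        have := ht.2.2
        rw [b.fixN_eq] at this ⊢
        rwa [cN_conj (b.leN hk)]⟩ ht
    fun e => hne (mul_inv_eq_iff_eq_mul.1 (congrArg Subtype.val e))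
  rw [b.fixN_eq] at h1
  have h2 := cN_conj (A := A) (b.leN (b.le t.2)) k
  unfold cN at h1 h2 ⊢
  set U := A ⊓ centralizer {k}
  set W := A ⊓ centralizer {t * k * (t : X)⁻¹}
  have h3 : Nat.card ↥(U ⊓ W) ≤ 2 ^ 12 := le_trans (card_le_of_le (le_inf
    (inf_le_left.trans inf_le_left) fun c hc => mem_centralizer_singleton_iff.2 (by
      have c1 : Commute c k := mem_centralizer_singleton_iff.1 hc.1.2
      have c2 : Commute c (t * k * (t : X)⁻¹) := mem_centralizer_singleton_iff.1 hc.2.2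
      have c3 := c1.mul_right c2.inv_right
      rwa [show k * (t * k * (t : X)⁻¹)⁻¹ = k * t * k⁻¹ * (t : X)⁻¹ by group,
        inv_eq_of_mul_eq_one_right tt] at c3))) h1
  have h4 := card_mul_relIndex (inf_le_left : U ≤ A)
  have h5 := card_mul_relIndex (inf_le_left : W ≤ A)
  have h6 := card_mul_relIndex ((inf_le_left : U ⊓ W ≤ U).trans inf_le_left)
  have h7 : (U ⊓ W).relIndex A ≤ U.relIndex A * W.relIndex A := relIndex_inf_le
  rw [h2, ← h4] at h5
  rw [Nat.eq_of_mul_eq_mul_left Nat.card_pos h5] at h7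
  rw [b.card] at h4 h6
  by_contra h8
  have h9 : U.relIndex A < 16 := by nlinarith
  have : (U ⊓ W).relIndex A < 256 := by nlinarith
  nlinarith

theorem hyp (M : letI := b.acg; letI := b.act; ModFacts K0 (Additive A)) :
    Hyp A (normalizer (A : Set X)) (A ⊔ K0) := by
  classical
  let _ := b.acg
  let _ := b.act
  have : Fact (Nat.Prime 3) := ⟨Nat.prime_three⟩
  have hN : ∀ k : K0, (k : X) ∈ normalizer (A : Set X) := fun k => b.leN (b.le k.2)
  refine ⟨rfl, b.card, b.sq, le_sup_left, sup_le le_normalizer (b.le.trans b.leN), ?_, ?_, ?_,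
    fun h => b.codim M, ?_, ?_, fun h hh o => ?_, fun h hh o => ?_⟩
  · intro x hx y hy h1 h2
    obtain ⟨a, ha, k, hk, rfl⟩ := b.dec hx
    obtain ⟨c, hc, l, hl, rfl⟩ := b.dec hy
    rw [show a * k * (c * l) = a * (k * c * k⁻¹) * (k * l) by group]
    exact mul_mem_sup (mul_mem ha (b.cj hk hc)) (b.idx k hk l hl (fun e => h1 (mul_mem_sup ha e))
      fun e => h2 (mul_mem_sup hc e))
  · intro a ha
    obtain ⟨x, y, hn, -, h⟩ := M.nine (Additive.ofMul ⟨a, ha⟩)
    exact ⟨y, hN y, orderOf_eq_prime (b.nine hn).y3 fun e => by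
      simpa using (b.nine hn).ind 0 1 (by norm_num) (by norm_num) (by simp [e]),
      mul_inv_eq_iff_eq_mul.1 ((b.smul_eq_iff _ _ _).1 h)⟩
  · intro D hD h2
    obtain ⟨x, y, hn, hx, hy⟩ := M.hyp (Subgroup.toAddSubgroup (D.subgroupOf A)) (by
      rw [index_toAddSubgroup]
      have := card_mul_relIndex hD
      rw [h2, mul_comm 2] at this
      exact Nat.eq_of_mul_eq_mul_left Nat.card_pos this)
    exact ⟨x, hN x, y, hN y, b.nine hn, fun d hd => hx (Additive.ofMul ⟨d, hD hd⟩) hd,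
      fun d hd => hy (Additive.ofMul ⟨d, hD hd⟩) hd⟩
  · obtain ⟨Ω, o1, o2, o3⟩ := M.inv
    have hinj : Function.Injective fun v : Additive A => (v.toMul : X) :=
      fun v w e => congrArg Additive.ofMul (Subtype.ext e)
    refine ⟨Ω.map ⟨_, hinj⟩, by rw [Finset.card_map, o1], fun a ha => ?_, fun h hh a ha => ?_,
      fun h hh hA h2 => ?_⟩
    · obtain ⟨v, -, rfl⟩ := Finset.mem_map.1 ha
      exact v.toMul.2
    · obtain ⟨v, hv, rfl⟩ := Finset.mem_map.1 ha
      obtain ⟨c, hc, k, hk, rfl⟩ := b.dec0 hh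
      exact Finset.mem_map.2 ⟨_, o2 ⟨k, hk⟩ v hv, (b.cj_mul hc v.toMul.2 (b.le hk)).symm⟩
    obtain ⟨c, hc, k, hk, rfl⟩ := b.dec0 hh
    have kk : k * k = 1 := by rw [← pow_two]; exact b.pow_eq hc (b.le hk) (by rwa [pow_two])
    have kc : k * c * k⁻¹ = c := by
      rw [inv_eq_of_mul_eq_one_right kk]
      nth_rw 2 [← b.inv hc]
      exact eq_inv_of_mul_eq_one_right (by rw [← h2]; group)
    refine (o3 ⟨k, hk⟩ (Subtype.ext kk) fun e => hA (by
      rw [show k = 1 from congrArg Subtype.val e, mul_one]; exact hc)).imp (fun h => ?_) fun h => ?_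
    · obtain ⟨w, y, oy, yk, h⟩ := h (Additive.ofMul ⟨c, hc⟩) ((b.smul_eq_iff _ _ _).2 kc)
      have e1 : (y : X) * (c * (w.toMul * (k * w.toMul * k⁻¹))) * (y : X)⁻¹ =
        c * (w.toMul * (k * w.toMul * k⁻¹)) := (b.smul_eq_iff _ _ _).1 h
      have e2 : (y : X) * k = k * y := congrArg Subtype.val yk
      have hw := w.toMul.2
      generalize (w.toMul : X) = u at e1 hw
      have e3 : u * (c * k) * u⁻¹ = c * (u * (k * u * k⁻¹)) * k := by
        rw [b.inv hw, ← mul_assoc, b.comm hw hc]; group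
      refine ⟨u⁻¹ * y * u, mul_mem (mul_mem (inv_mem (le_normalizer hw)) (hN y)) (le_normalizer hw),
        ?_, ?_⟩
      · have := orderOf_injective (MulAut.conj u⁻¹).toMonoidHom (MulAut.conj u⁻¹).injective (y : X)
        rw [orderOf_coe, oy] at this
        simpa using this
      · calc u⁻¹ * y * u * (c * k) = u⁻¹ * (y * (u * (c * k) * u⁻¹)) * u := by group
          _ = u⁻¹ * ((u * (c * k) * u⁻¹) * y) * u := by
            rw [e3, ← mul_assoc (y : X), mul_inv_eq_iff_eq_mul.1 e1, mul_assoc _ (y : X), e2,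
              ← mul_assoc _ k]
          _ = _ := by group
    · rw [b.cN_mul hc, ← h.2, ← b.fixN_eq ⟨k, hk⟩]
      refine ⟨h.1, (Nat.card_eq_of_bijective (fun v : {v // v ∈ Ω ∧ (⟨k, hk⟩ : K0) • v = v} =>
        (⟨v.1.toMul, Finset.mem_map.2 ⟨_, v.2.1, rfl⟩, (b.cj_mul hc v.1.toMul.2 (b.le hk)).trans
          ((b.smul_eq_iff _ _ _).1 v.2.2)⟩ : {a : X // a ∈ Ω.map ⟨_, hinj⟩ ∧
            c * k * a * (c * k)⁻¹ = a}))
        ⟨fun v w e => Subtype.ext (hinj (by exact congrArg (fun z => z.1) e)), ?_⟩).symm⟩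
      rintro ⟨a, h1, h3⟩
      obtain ⟨v, hv, rfl⟩ := Finset.mem_map.1 h1
      exact ⟨⟨v, hv, (b.smul_eq_iff _ _ _).2
        ((b.cj_mul hc v.toMul.2 (b.le hk)).symm.trans h3)⟩, rfl⟩
  · rw [← b.sup]
    refine (card_sup_dvd b.leN).trans ?_
    rw [b.card]
    exact (Nat.mul_dvd_mul_left _ (b.dvd.trans (Nat.mul_dvd_mul_left 2 M.ord))).trans (by norm_num)
  · obtain ⟨k, o', e⟩ := b.odd_part hh (by norm_num) (by decide) o
    rw [e, ← b.fixN_eq]
    exact M.five k o'
  · obtain ⟨k, o', e⟩ := b.odd_part hh (by norm_num) (by decide) o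
    rw [e, ← b.fixN_eq]
    exact M.seven k o'

end Br

theorem bridge {X : Type u} [Group X] [Finite X] (A : Subgroup X) (hA : Nat.card A = 2 ^ 20)
    (H : Subgroup X) (hH : H = Subgroup.normalizer (A : Set X))
    (K : Subgroup X) (hKH : K ≤ H) (hAK : A ⊓ K = ⊥) (hHAK : A ⊔ K = H)
    (F : Type v) [Field F] [Fintype F] [Fact (Fintype.card F = 2 ^ 2)]
    (hK : Nonempty (K ≃* Cfsg.PSU 6 F 2) ∨
      ∃ K₀ : Subgroup K, K₀.Normal ∧ K₀.index = 2 ∧ Nonempty (K₀ ≃* Cfsg.PSU 6 F 2) ∧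
        Subgroup.centralizer (K₀ : Set K) = ⊥)
    (hmin : ∀ B : Subgroup X, B ≤ A → (∀ h ∈ H, ∀ b ∈ B, h * b * h⁻¹ ∈ B) → B = ⊥ ∨ B = A)
    (hM : ∀ (Q : Type u) [Group Q] [Finite Q] (V : Type u) [AddCommGroup V] [DistribMulAction Q V],
      Setup F Q V → ModFacts Q V) :
    ∃ H0 : Subgroup X, Hyp A H H0 := by
  subst hH
  obtain ⟨K0, b, ⟨e⟩⟩ : ∃ K0, Br A K K0 ∧ Nonempty (K0 ≃* Cfsg.PSU 6 F 2) := by
    rcases hK with h | ⟨K₀, hn, hi, ⟨e⟩, hc⟩
    · exact ⟨K, ⟨hA, sq_of_min hA hmin, hHAK, hAK, le_rfl,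
        fun k hk x hx => mul_mem (mul_mem hk hx) (inv_mem hk), fun x hx _ _ h => absurd hx h,
        dvd_mul_left _ _, fun k hk h => absurd hk h, hmin⟩, h⟩
    · have hm : ∀ x : K, (x : X) ∈ K₀.map K.subtype ↔ x ∈ K₀ := fun x =>
        mem_map_iff_mem (f := K.subtype) Subtype.val_injective
      refine ⟨K₀.map K.subtype, ⟨hA, sq_of_min hA hmin, hHAK, hAK, map_subtype_le _, ?_,
        fun x hx y hy h1 h2 => ?_, ?_, fun k hk h1 h2 => h1 ?_, hmin⟩,
        ⟨(K₀.equivMapOfInjective _ Subtype.val_injective).symm.trans e⟩⟩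
      · rintro k hk _ ⟨x, hx, rfl⟩
        exact ⟨_, hn.conj_mem x hx ⟨k, hk⟩, rfl⟩
      · exact (hm (⟨x, hx⟩ * ⟨y, hy⟩)).2 ((mul_mem_iff_of_index_two hi).2
          (iff_of_false (mt (hm ⟨x, hx⟩).2 h1) (mt (hm ⟨y, hy⟩).2 h2)))
      · rw [card_subtype, ← hi, mul_comm, card_mul_index]
      · have : (⟨k, hk⟩ : K) ∈ centralizer (K₀ : Set K) := fun x hx =>
          Subtype.ext (h2 x ((hm x).2 hx)).symm
        rw [hc, mem_bot] at this
        rw [show k = 1 from congrArg Subtype.val this]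
        exact one_mem _
  obtain ⟨S⟩ := b.setup F e
  exact ⟨_, b.hyp (@hM K0 _ _ (Additive A) b.acg b.act S)⟩

end Cfsg.Agent.U6
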