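import Cfsg.Agent.U6.Hyper

/-! A subgroup of `A` whose centraliser is transitive on the non-trivial cosets has index two. -/

set_option autoImplicit false

namespace Cfsg.Agent.U6

open Subgroup

variable {X : Type*} [Group X] [Finite X] {A H H0 : Subgroup X}

theorem Hyp.index_two (hy : Hyp A H H0) {D : Subgroup X} (hD : D ≤ A) (hne : D ≠ A)
    (ht : ∀ a ∈ A, a ∉ D → ∀ a' ∈ A, a' ∉ D →
      ∃ y ∈ H, (∀ d ∈ D, y * d = d * y) ∧ y * a * y⁻¹ * a' ∈ D) :
    Nat.card A = 2 * Nat.card D := by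
  obtain ⟨a, ha, haD⟩ := SetLike.exists_of_lt (lt_of_le_of_ne hD hne)
  set L := H ⊓ centralizer (D : Set X) with hL
  have hc : ∀ y ∈ L, ∀ x, y * x * y⁻¹ ∈ D ↔ x ∈ D := fun y hy x =>
    (mem_normalizer_iff.1 (centralizer_le_normalizer _ hy.2) x).symm
  let act : MulAction L (X ⧸ D) :=
    { smul := fun y => Quotient.map' (fun x => y * x * (y : X)⁻¹) fun u v h => by
        rw [QuotientGroup.leftRel_apply] at h ⊢
        have := (hc y y.2 _).2 h
        simpa [mul_assoc] using this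
      one_smul := fun q => by
        obtain ⟨x, rfl⟩ := QuotientGroup.mk_surjective q
        change ((((1 : L) : X) * x * ((1 : L) : X)⁻¹ : X) : X ⧸ D) = x
        simp
      mul_smul := fun y z q => by
        obtain ⟨x, rfl⟩ := QuotientGroup.mk_surjective q
        change ((((y * z : L) : X) * x * ((y * z : L) : X)⁻¹ : X) : X ⧸ D) =
          ((y * (z * x * (z : X)⁻¹) * (y : X)⁻¹ : X) : X ⧸ D)
        simp [mul_assoc] }
  have h1 : QuotientGroup.mk ⁻¹' MulAction.orbit L (a : X ⧸ D) = (A : Set X) \ D := by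
    ext x
    constructor
    · rintro ⟨y, e⟩
      have e1 : (y * a * (y : X)⁻¹)⁻¹ * x ∈ D := QuotientGroup.eq.1 e
      have e2 : y * a * (y : X)⁻¹ ∈ A := (mem_normalizer_iff.1 (hy.norm ▸ y.2.1) a).1 ha
      exact ⟨(mul_mem_cancel_left (inv_mem e2)).1 (hD e1), fun h =>
        haD ((hc y y.2 a).1 (inv_mem_iff.1 ((mul_mem_cancel_right h).1 e1)))⟩
    · rintro ⟨h1, h2⟩
      obtain ⟨y, hyH, c, e⟩ := ht a ha haD x h1 h2
      refine ⟨⟨y, hyH, fun d hd => (c d hd).symm⟩, QuotientGroup.eq.2 ?_⟩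
      change (y * a * y⁻¹)⁻¹ * x ∈ D
      rwa [mul_inv_rev, mul_inv_rev, inv_inv, inv_eq_of_mul_eq_one_right (hy.sq a ha), ← mul_assoc]
  have h2 := QuotientGroup.card_preimage_mk D (MulAction.orbit L (a : X ⧸ D))
  rw [h1, Nat.card_coe_set_eq, Set.ncard_sdiff hD, Nat.card_coe_set_eq,
    ← MulAction.index_stabilizer] at h2
  have h3 := (MulAction.stabilizer L (a : X ⧸ D)).index_dvd_card
  change Nat.card A - Nat.card D = _ at h2
  generalize (MulAction.stabilizer L (a : X ⧸ D)).index = n at h2 h3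
  have key : ∀ p : ℕ, p.Prime → p ≠ 2 → p ∣ n →
      ∃ h ∈ H, h ∉ A ∧ orderOf h = p ∧ Nat.card D ≤ cN A h := fun p hp hp2 hn => by
    obtain ⟨h, hh, o⟩ := Local.exists_mem_orderOf_eq_of_dvd_card hp (hn.trans h3)
    refine ⟨h, hh.1, fun e => hp2 ((Nat.prime_dvd_prime_iff_eq hp Nat.prime_two).1
      (o ▸ orderOf_dvd_of_pow_eq_one (by rw [pow_two, hy.sq h e]))), o,
      card_le_of_le (le_inf hD fun d hd => mem_centralizer_singleton_iff.2 (hh.2 d hd))⟩
  have h4 := (h3.trans (card_dvd_of_le inf_le_left)).trans hy.ord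
  have h5 := card_dvd_of_le hD
  have h6 : Nat.card D ≠ Nat.card A := fun e => hne (eq_of_le_of_card_ge hD e.ge)
  rw [hy.card] at h2 h5 h6 ⊢
  obtain ⟨j, hj, e⟩ := (Nat.dvd_prime_pow Nat.prime_two).1 h5
  rw [e] at h2 h6 key ⊢
  have h7 : n = 2 ^ (20 - j) - 1 := by
    apply Nat.eq_of_mul_eq_mul_left (Nat.two_pow_pos j)
    rw [← h2, Nat.mul_sub, ← pow_add, Nat.add_sub_cancel' hj, mul_one]
  subst h7
  have k3 := fun h => (key 3 Nat.prime_three (by norm_num) h).imp fun h e =>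
    e.2.2.2.trans (hy.codim h e.1 e.2.1)
  have k5 := fun h => (key 5 (by norm_num) (by norm_num) h).imp fun h e =>
    e.2.2.2.trans (hy.five h e.1 e.2.2.1)
  have k7 := fun h => (key 7 (by norm_num) (by norm_num) h).imp fun h e =>
    e.2.2.2.trans (hy.seven h e.1 e.2.2.1)
  interval_cases j <;> simp at h4 h6 k3 k5 k7 ⊢

end Cfsg.Agent.U6
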