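import Cfsg.Agent.U6.Defs
import Cfsg.Agent.Small.Rho

/-! A hyperplane of `A` is centralised by `A` only. -/

set_option autoImplicit false

namespace Cfsg.Agent.U6

open Subgroup Cfsg.Agent.Local

variable {X : Type*} [Group X] [Finite X] {A H H0 : Subgroup X}

omit [Finite X] in
theorem Hyp.comm (hy : Hyp A H H0) {a b : X} (ha : a ∈ A) (hb : b ∈ A) : a * b = b * a := by
  have h := hy.sq _ (mul_mem ha hb)
  rw [← inv_eq_of_mul_eq_one_right h, mul_inv_rev, inv_eq_of_mul_eq_one_right (hy.sq a ha),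
    inv_eq_of_mul_eq_one_right (hy.sq b hb)]

omit [Finite X] in
theorem Nine.exists_eq {x y e : X} (hn : Nine x y) (he : e ∈ closure ({x, y} : Set X)) :
    ∃ i j : ℕ, e = x ^ i * y ^ j := by
  have hc : Commute x y := hn.comm
  induction he using closure_induction with
  | mem z hz =>
    rcases hz with rfl | rfl
    · exact ⟨1, 0, by simp⟩
    · exact ⟨0, 1, by simp⟩
  | one => exact ⟨0, 0, by simp⟩
  | mul a b _ _ ha hb =>
    obtain ⟨i, j, rfl⟩ := ha
    obtain ⟨k, l, rfl⟩ := hb
    exact ⟨i + k, j + l, by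
      rw [pow_add, pow_add, mul_assoc, mul_assoc, ← mul_assoc (y ^ j), ← (hc.pow_pow k j).eq,
        mul_assoc]⟩
  | inv a _ ha =>
    obtain ⟨i, j, rfl⟩ := ha
    refine ⟨2 * i, 2 * j, inv_eq_of_mul_eq_one_right ?_⟩
    rw [mul_assoc, ← mul_assoc (y ^ j), ← (hc.pow_pow _ j).eq, mul_assoc, ← mul_assoc, ← pow_add,
      ← pow_add, show i + 2 * i = 3 * i by ring, show j + 2 * j = 3 * j by ring, pow_mul, pow_mul,
      hn.x3, hn.y3]
    simp

theorem Hyp.cent_le (hy : Hyp A H H0) (hSE : SE H) {D : Subgroup X} (hD : D ≤ A)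
    (h2 : Nat.card A = 2 * Nat.card D) : Subgroup.centralizer (D : Set X) ≤ A := by
  classical
  have : Fact (Nat.Prime 3) := ⟨Nat.prime_three⟩
  obtain ⟨x, hx, y, hyH, hn, nx, ny⟩ := hy.hyp D hD h2
  have key : ∀ e ∈ H, orderOf e = 3 → centralizer (D : Set X) ⊓ centralizer {e} ≤ A := by
    intro e he o c hc
    have h1 : c ∈ H := hSE c e o he (by
      rwa [mul_assoc, ← mem_centralizer_singleton_iff.1 hc.2, inv_mul_cancel_left])
    by_contra h3
    have h4 : Nat.card D ≤ cN A c := card_le_of_le (le_inf hD fun d hd =>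
      mem_centralizer_singleton_iff.2 (hc.1 d hd))
    have h5 := hy.codim c h1 h3
    have h6 := hy.card
    omega
  have hnorm : ∀ {g : X}, (∀ d ∈ D, g * d * g⁻¹ ∈ D) →
      g ∈ normalizer (centralizer (D : Set X) : Set X) := fun {g} hg => by
    have h1 := inv_mem (mem_normalizer_of_conj_mem hg)
    refine mem_normalizer_of_conj_mem fun c hc d hd => ?_
    have := hc _ (conj_mem_of_mem_normalizer h1 hd)
    rw [inv_inv] at this
    calc d * (g * c * g⁻¹) = g * (g⁻¹ * d * g * c) * g⁻¹ := by group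
      _ = _ := by rw [this]; group
  have oy : orderOf y = 3 := orderOf_eq_prime hn.y3 fun e => by
    simpa using hn.ind 0 1 (by norm_num) (by norm_num) (by simp [e])
  refine le_of_centralizer_le_of_rank_two Nat.prime_three (hnorm nx) (hnorm ny) hn.comm hn.x3 oy
    (fun e => ?_) (fun h3 => ?_) fun e he e1 => key e ?_ (orderOf_eq_prime ?_ e1)
  · rw [mem_zpowers_iff_mem_range_orderOf, oy, Finset.mem_image] at e
    obtain ⟨i, hi, e⟩ := e
    have h1 := hn.ind 1 (2 * i % 3) (by norm_num) (Nat.mod_lt _ (by norm_num)) (by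
      rw [← oy, pow_mod_orderOf, pow_one, ← e, ← pow_add, show i + 2 * i = 3 * i by ring, pow_mul,
        hn.y3, one_pow])
    omega
  · have h4 := (Nat.modEq_zero_iff_dvd.1
      ((Small.card_modEq_cent Nat.prime_three oy (hnorm ny)).symm.trans
        (Nat.modEq_zero_iff_dvd.2 h3))).trans (card_dvd_of_le (key y hyH oy))
    rw [hy.card] at h4
    exact absurd h4 (by norm_num)
  · obtain ⟨i, j, rfl⟩ := hn.exists_eq he
    exact mul_mem (pow_mem hx i) (pow_mem hyH j)
  · obtain ⟨i, j, rfl⟩ := hn.exists_eq he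
    rw [((show Commute x y from hn.comm).pow_pow i j).mul_pow, ← pow_mul, ← pow_mul, mul_comm i,
      mul_comm j, pow_mul, pow_mul, hn.x3, hn.y3]
    simp

end Cfsg.Agent.U6
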