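import Cfsg.Agent.U6.Dih
import Cfsg.Agent.U6.Big
import Cfsg.Agent.U6.Hyper

/-! The normaliser of `A` is not strongly `3`-embedded. -/

set_option autoImplicit false

namespace Cfsg.Agent.U6

open Subgroup

variable {X : Type*} [Group X] [Finite X] {A H H0 : Subgroup X}

theorem Hyp.top (hy : Hyp A H H0) (hSE : SE H) : H = ⊤ := by
  by_contra hne
  obtain ⟨g₀, hg₀⟩ : ∃ g, g ∉ H := by
    by_contra h
    push Not at h
    exact hne (eq_top_iff.2 fun g _ => h g)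
  obtain ⟨g, hg, hm⟩ := Set.exists_max_image {g | g ∉ H} (fun g => Nat.card ↥(A ⊓ cj' A g))
    (Set.toFinite _) ⟨g₀, hg₀⟩
  have hle : ¬ cj' A g ≤ A := fun h => hg (by
    rw [hy.norm]
    exact Local.mem_normalizer_of_conj_mem fun a ha => h ⟨a, ha, rfl⟩)
  have hc : Nat.card (cj' A g) = Nat.card A := card_map_of_injective (MulAut.conj g).injective
  have h2 := hy.index_two (D := A ⊓ cj' A g) inf_le_left
    (fun e => hle (eq_of_le_of_card_ge (inf_eq_left.1 e) hc.le).ge)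
    fun a ha ha1 a' ha' ha1' => hy.trans hSE ⟨hg, hm⟩ ha (fun e => ha1 ⟨ha, e⟩) ha'
      fun e => ha1' ⟨ha', e⟩
  refine hle (le_trans ?_ (hy.cent_le hSE inf_le_left h2))
  rintro _ ⟨a, ha, rfl⟩ _ ⟨-, b, hb, rfl⟩
  rw [← map_mul, ← map_mul, hy.comm ha hb]

end Cfsg.Agent.U6
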