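import Cfsg.Agent.U6.Defs

/-! Involutions of `SU₆(2)` are products of at most three commuting transvections. -/

set_option autoImplicit false

namespace Cfsg.Agent.U6

open Cfsg.Agent.Amalg Module

variable {F : Type*} [Field F] [Fintype F] [hF : Fact (Fintype.card F = 2 ^ 2)]

include hF in
theorem inv_two : (2 : F) = 0 := by
  have h := FiniteField.cast_card_eq_zero F
  rw [hF.out] at h
  have h2 : (2 : F) ^ 2 = 0 := by exact_mod_cast h
  exact pow_eq_zero_iff (by norm_num) |>.1 h2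

include hF in
theorem inv_om : ∃ w : F, w ^ 2 ≠ w := by
  classical
  by_contra h
  push Not at h
  have : (Finset.univ : Finset F) ⊆ {0, 1} := fun x _ => by
    have e : x * (x - 1) = 0 := by linear_combination h x
    rcases mul_eq_zero.1 e with e | e
    · simp [e]
    · simp [sub_eq_zero.1 e]
  have h1 := Finset.card_le_card this
  have h2 : ({0, 1} : Finset F).card ≤ 2 := Finset.card_le_two
  rw [Finset.card_univ, hF.out] at h1
  omega

/-- The map `σ - 1`. -/
noncomputable def nil (σ : SU 6 F 2) : (Fin 6 → F) →ₗ[F] (Fin 6 → F) :=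
  (suM σ).mulVecLin - LinearMap.id

omit [Fintype F] hF in
theorem nil_apply (σ : SU 6 F 2) (v : Fin 6 → F) : nil σ v = σ • v - v := rfl

theorem inv_smul_eq {σ : SU 6 F 2} (hσ : σ * σ = 1) (u v : Fin 6 → F) :
    hf 2 (σ • u) v = hf 2 u (σ • v) := by
  rw [hf_smul_left', inv_eq_of_mul_eq_one_right hσ]

theorem nil_adj {σ : SU 6 F 2} (hσ : σ * σ = 1) (u v : Fin 6 → F) :
    hf 2 (nil σ u) v = hf 2 u (nil σ v) := by
  rw [nil_apply, nil_apply, hf_sub_left, hf_sub_right, inv_smul_eq hσ]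

theorem smul_nil {σ : SU 6 F 2} (hσ : σ * σ = 1) (v : Fin 6 → F) :
    σ • nil σ v = nil σ v := by
  rw [nil_apply, smul_sub, ← mul_smul, hσ, one_smul]
  generalize σ • v = w
  linear_combination (norm := module) (inv_two (F := F)) • (v - w)

theorem nil_nil {σ : SU 6 F 2} (hσ : σ * σ = 1) (v : Fin 6 → F) : nil σ (nil σ v) = 0 := by
  rw [nil_apply σ (nil σ v), smul_nil hσ, sub_self]

theorem nil_iso {σ : SU 6 F 2} (hσ : σ * σ = 1) (u v : Fin 6 → F) :
    hf 2 (nil σ u) (nil σ v) = 0 := by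
  rw [nil_adj hσ, nil_nil hσ, hf_zero_right]

theorem nil_vec {σ : SU 6 F 2} (hσ : σ * σ = 1) (h1 : σ ≠ 1) :
    ∃ v : Fin 6 → F, hf 2 (nil σ v) v = 1 := by
  by_contra h
  push Not at h
  have h0 : ∀ v : Fin 6 → F, hf 2 (nil σ v) v = 0 := fun v => by
    have e : cj 2 (hf 2 (nil σ v) v) = hf 2 (nil σ v) v := by rw [cj_hf, nil_adj hσ]
    rw [cj_apply] at e
    have e' : hf 2 (nil σ v) v * (hf 2 (nil σ v) v - 1) = 0 := by linear_combination e
    rcases mul_eq_zero.1 e' with e' | e'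
    · exact e'
    · exact absurd (sub_eq_zero.1 e') (h v)
  obtain ⟨om, hom⟩ := inv_om (F := F)
  have hb : ∀ v w : Fin 6 → F, hf 2 (nil σ v) w = 0 := fun v w => by
    by_contra hb
    have e := h0 ((om * (hf 2 (nil σ v) w)⁻¹) • v + w)
    have e2 : hf 2 (nil σ w) v = cj 2 (hf 2 (nil σ v) w) := by rw [cj_hf, nil_adj hσ]
    simp only [map_add, map_smul, hf_add_left, hf_add_right, hf_smul_left, hf_smul_right, h0,
      e2, mul_zero, zero_add, add_zero] at e
    rw [← map_mul, mul_assoc om, inv_mul_cancel₀ hb, mul_one, cj_apply] at e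
    apply hom
    have h2 : (2 : F) = 0 := inv_two
    linear_combination e - om * h2
  apply h1
  refine su_ext_vec fun v => ?_
  rw [one_smul, ← sub_eq_zero, ← nil_apply]
  exact vec_ext (q := 2) fun l => by rw [hb, hf_zero_left]

theorem tr_smul {p : Fin 6 → F} (hp : hf 2 p p = 0) (x : Fin 6 → F) :
    (uS p 0 1 : SU 6 F 2) • x = x - hf 2 x p • p := by
  rw [uS_smul (sok_zero hp (by rw [map_one, one_add_one_eq_two, inv_two]))]
  simp

theorem invol_aux (n : ℕ) : ∀ σ : SU 6 F 2, σ * σ = 1 →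
    6 ≤ finrank F (LinearMap.ker (nil σ)) + n →
    ∃ l : List (Fin 6 → F), l.length ≤ n ∧ (∀ p ∈ l, p ≠ 0) ∧
      (∀ p ∈ l, p ∈ LinearMap.range (nil σ)) ∧
      σ = (l.map fun p => (uS p 0 1 : SU 6 F 2)).prod := by
  induction n with
  | zero =>
    intro σ _ hn
    refine ⟨[], le_rfl, by simp, by simp, ?_⟩
    have ht : LinearMap.ker (nil σ) = ⊤ := Submodule.eq_top_of_finrank_eq (le_antisymm
      (Submodule.finrank_le _) (by simpa using hn))
    refine su_ext_vec fun v => ?_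
    have : nil σ v = 0 := LinearMap.mem_ker.1 (ht.ge Submodule.mem_top)
    rw [nil_apply, sub_eq_zero] at this
    simpa using this
  | succ n ih =>
    intro σ hσ hn
    by_cases h1 : σ = 1
    · exact ⟨[], by simp, by simp, by simp, by simpa using h1⟩
    obtain ⟨v, hv⟩ := nil_vec hσ h1
    have h2 : (2 : F) = 0 := inv_two
    obtain ⟨p, hp⟩ : ∃ p, p = nil σ v := ⟨_, rfl⟩
    have hpp : hf 2 p p = 0 := hp ▸ nil_iso hσ v v
    have hσp : σ • p = p := hp ▸ smul_nil hσ v
    have hvp : hf 2 v p = 1 := by rw [← cj_hf, hp, hv, map_one]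
    have hs : ∀ x, (uS p 0 1 * σ : SU 6 F 2) • x = σ • x - hf 2 x p • p := fun x => by
      rw [mul_smul, tr_smul hpp, inv_smul_eq hσ, hσp]
    have hN : ∀ x, nil (uS p 0 1 * σ) x = nil σ x - hf 2 x p • p := fun x => by
      rw [nil_apply, nil_apply, hs]; abel
    have hsq : (uS p 0 1 * σ : SU 6 F 2) * (uS p 0 1 * σ) = 1 := su_ext_vec fun x => by
      rw [mul_smul, hs, hs, smul_sub, ← mul_smul, hσ, su_smul_smul, hσp, hf_sub_left,
        hf_smul_left, hpp, inv_smul_eq hσ, hσp, one_smul]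
      linear_combination (norm := module) (-hf 2 x p * h2) • p
    have hlt : LinearMap.ker (nil σ) < LinearMap.ker (nil (uS p 0 1 * σ)) := by
      refine lt_of_le_of_ne (fun x hx => ?_) fun e => ?_
      · rw [LinearMap.mem_ker] at hx ⊢
        rw [hN, hx, hp, ← nil_adj hσ, hx]
        simp
      · have : v ∈ LinearMap.ker (nil (uS p 0 1 * σ)) := by
          rw [LinearMap.mem_ker, hN, hvp, one_smul, hp, sub_self]
        rw [← e, LinearMap.mem_ker] at this
        rw [this, hf_zero_left] at hv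
        exact zero_ne_one hv
    have := Submodule.finrank_lt_finrank_of_lt hlt
    obtain ⟨l, hl, hl0, hlr, he⟩ := ih _ hsq (by omega)
    refine ⟨p :: l, by simpa using hl, fun x hx => ?_, fun x hx => ?_, ?_⟩
    · rcases List.mem_cons.1 hx with rfl | hx
      · rintro rfl
        rw [hf_zero_right] at hvp
        exact zero_ne_one hvp
      · exact hl0 x hx
    · rcases List.mem_cons.1 hx with rfl | hx
      · exact ⟨v, hp.symm⟩
      · obtain ⟨y, rfl⟩ := hlr x hx
        exact ⟨y - hf 2 y p • v, by rw [hN, map_sub, map_smul, ← hp]⟩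
    · rw [List.map_cons, List.prod_cons, ← he, ← mul_assoc]
      have : (uS p 0 1 * uS p 0 1 : SU 6 F 2) = 1 := su_ext_vec fun x => by
        rw [mul_smul, tr_smul hpp, tr_smul hpp, hf_sub_left, hf_smul_left, hpp, one_smul]
        linear_combination (norm := module) (-hf 2 x p * h2) • p
      rw [this, one_mul]

theorem invol (σ : SU 6 F 2) (hσ : σ * σ = 1) :
    ∃ l : List (Fin 6 → F), l.length ≤ 3 ∧ (∀ p ∈ l, p ≠ 0) ∧ (∀ p ∈ l, ∀ p' ∈ l, hf 2 p p' = 0) ∧
      σ = (l.map fun p => (uS p 0 1 : SU 6 F 2)).prod := by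
  have h1 := (nil σ).finrank_range_add_finrank_ker
  have h2 : finrank F (LinearMap.range (nil σ)) ≤ finrank F (LinearMap.ker (nil σ)) :=
    Submodule.finrank_mono (by rintro _ ⟨v, rfl⟩; exact nil_nil hσ v)
  rw [finrank_fin_fun] at h1
  obtain ⟨l, hl, hl0, hlr, he⟩ := invol_aux 3 σ hσ (by omega)
  refine ⟨l, hl, hl0, fun p hp p' hp' => ?_, he⟩
  obtain ⟨u, rfl⟩ := hlr p hp
  obtain ⟨v, rfl⟩ := hlr p' hp'
  exact nil_iso hσ u v

end Cfsg.Agent.U6
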