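import Cfsg.Agent.U6.ClsC

/-! Computations for the orbits on vectors. -/

set_option autoImplicit false
set_option maxRecDepth 100000

namespace Cfsg.Agent.U6

open Cfsg.Agent.Comp

noncomputable section

/-- all rows equal to one -/
def oneM : ℕ := pack fun _ => nat_lit 1

/-- the antidiagonal matrix -/
def jM : ℕ := pack fun i => Nat.pow (nat_lit 2) (Nat.sub (nat_lit 19) i)

/-- the invariant form -/
def bet (m n : ℕ) : ℕ := app oneM (Nat.land m (app jM n))

/-- invariance of the form -/
def betChk (s : ℕ) : Bool :=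
  all1 (fun i => all1 (fun j => Nat.beq (bet (row (tau s) i) (row (tau s) j))
    (bet (Nat.pow (nat_lit 2) i) (Nat.pow (nat_lit 2) j))) (nat_lit 0) (nat_lit 20))
    (nat_lit 0) (nat_lit 20)

theorem bet_ok : all1 betChk (nat_lit 0) (nat_lit 8) = true := by decide +kernel

/-- the orbit representatives -/
def repV (r : ℕ) : ℕ := nth [0, 131585, 8, 153137, 180769, 21552] r

/-- check of the words to the representatives -/
def nfChk (y : ℕ) : Bool :=
  (fun w => okL (lt10 w 0) &: okL (lt10 w 1) &: okL (lt10 w 2) &: okL (lt10 w 3) &: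
    Nat.ble (lt10 w 4) (nat_lit 5) &:
    Nat.beq (app (tau (lt10 w 0)) (app (tau (lt10 w 1)) (app (tau (lt10 w 2))
      (app (tau (lt10 w 3)) (Nat.add (nat_lit 524288) y))))) (repV (lt10 w 4)))
    lk[nat_lit 17592186044415, nfT, Nat.mul (nat_lit 44) y]

theorem nf_ok : allR nfChk (nat_lit 0) (nat_lit 1024) = true := by decide +kernel

/-- check of the spanning vectors -/
def spChk (i : ℕ) : Bool :=
  (fun w => okL (lt10 w 0) &: okL (lt10 w 1) &: okL (lt10 w 2) &:
    Nat.beq (app (tau (lt10 w 0)) (app (tau (lt10 w 1)) (app (tau (lt10 w 2)) (nat_lit 1))))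
      (row spB i))
    lk[nat_lit 1073741823, spT, Nat.mul (nat_lit 30) i]

theorem sp_ok : all1 spChk (nat_lit 0) (nat_lit 20) = true := by decide +kernel

/-- check of a group of order nine -/
def nineChk (X Y : ℕ) : Bool :=
  Nat.beq (mul X (mul X X)) idM &: Nat.beq (mul Y (mul Y Y)) idM &: Nat.beq (mul X Y) (mul Y X) &:
  (!meq X idM) &: (!meq Y idM) &: (!meq (mul X Y) idM) &: (!meq X Y)

/-- first generator -/
def repX (r : ℕ) : List ℕ :=
  nthW [[6, 1], [6, 4, 3, 0], [64, 2], [6, 4, 3, 0], [6, 4, 3, 0], [6, 1]] r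

/-- second generator -/
def repY (r : ℕ) : List ℕ :=
  nthW [[19, 0], [14, 3, 1, 0], [6, 0], [14, 3, 1, 0], [14, 3, 1, 0], [19, 0]] r

/-- check of the stabilizers of the representatives -/
def repChk (r : ℕ) : Bool :=
  allL okL (repX r) &: allL okL (repY r) &: nineChk (wM tau (repX r)) (wM tau (repY r)) &:
  Nat.ble (repV r) (nat_lit 1048575) &:
  Nat.beq (app (wM tau (repX r)) (repV r)) (repV r) &: Nat.beq (app (wM tau (repY r)) (repV r)) (repV r)

theorem rep_ok : all1 repChk (nat_lit 0) (nat_lit 6) = true := by decide +kernel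

/-- the points used to clear the middle coordinates -/
def kp (t : ℕ) : ℕ := nth [0, 2, 4, 7, 88, 213, 310, 352, 502] t

theorem kp_ok : ∀ t, t < 9 → kp t < 694 ∧ ∀ i, i < 20 →
    app (tau (kp t)) (2 ^ i) >>> 10 = (2 ^ i >>> 10) ^^^ ((2 ^ i >>> 19) <<< t) := by
  decide +kernel

end

end Cfsg.Agent.U6
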