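import Cfsg.Agent.U6.Cls
import Cfsg.Agent.U6.NFC

/-! Every vector and every hyperplane is fixed by a group of order nine. -/

set_option autoImplicit false
set_option maxRecDepth 100000

namespace Cfsg.Agent.U6

open Cfsg.Agent.Comp

noncomputable section

theorem lin_bet_left (n : ℕ) : Lin fun m => bet m n := fun a b => by
  show app oneM ((a ^^^ b) &&& _) = app oneM (a &&& _) ^^^ app oneM (b &&& _)
  rw [Nat.and_xor_distrib_right, app_xor]

theorem lin_bet_right (m : ℕ) : Lin fun n => bet m n := fun a b => by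
  show app oneM (m &&& app jM (a ^^^ b)) = app oneM (m &&& _) ^^^ app oneM (m &&& _)
  rw [app_xor, Nat.and_xor_distrib_left, app_xor]

theorem bet_lt (m n : ℕ) : bet m n < 2 := app_lt_pow (c := 1) (by decide +kernel) _

theorem lin_shift (k : ℕ) : Lin fun n => n >>> k := fun _ _ => Nat.shiftRight_xor_distrib

theorem lin_shiftL (k : ℕ) : Lin fun n => n <<< k := fun _ _ => Nat.shiftLeft_xor_distrib

theorem lin_bit (j : ℕ) : Lin fun n => (n.testBit j).toNat := fun a b => by
  show ((a ^^^ b).testBit j).toNat = (a.testBit j).toNat ^^^ (b.testBit j).toNat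
  rw [Nat.testBit_xor]
  cases a.testBit j <;> cases b.testBit j <;> rfl

theorem lin_zero : Lin fun _ => 0 := fun _ _ => (Nat.xor_self 0).symm

theorem bet_tab : ∀ j, j < 20 → ∀ i, i < 20 →
    bet (2 ^ i) (2 ^ (19 - j)) = ((2 ^ i).testBit j).toNat := by decide +kernel

theorem bet_pow {j : ℕ} (hj : j < 20) {m : ℕ} (hm : m < 2 ^ 20) :
    bet m (2 ^ (19 - j)) = (m.testBit j).toNat :=
  lin_ext (lin_bet_left _) (lin_bit j) (bet_tab j hj) m hm

theorem jM_tab : ∀ i, i < 20 → row jM i = 2 ^ (19 - i) := by decide +kernel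

theorem sp_inv : mul spB spI = idM := by decide +kernel

attribute [local irreducible] mul app tau rk meq pack row wM lt10 bet

variable {Q : Type*} [Group Q] {V : Type*} [AddCommGroup V] [DistribMulAction Q V]

theorem Nine.conj {x y : Q} (h : Nine x y) (g : Q) : Nine (g * x * g⁻¹) (g * y * g⁻¹) where
  x3 := by rw [conj_pow, h.x3]; group
  y3 := by rw [conj_pow, h.y3]; group
  comm := by
    calc _ = g * (x * y) * g⁻¹ := by group
      _ = _ := by rw [h.comm]; group
  ind i j hi hj e := h.ind i j hi hj (by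
    rw [conj_pow, conj_pow] at e
    have : g * (x ^ i * y ^ j) * g⁻¹ = 1 := by rw [← e]; group
    simpa using this)

namespace Model
variable (M : Model Q V)

theorem nine_of {x y : Q} {X Y : ℕ} (hx : Act M.C x X) (hy : Act M.C y Y)
    (h : nineChk X Y = true) : Nine x y := by
  unfold nineChk at h
  simp only [band_true, Comp.beq_true, Bool.not_eq_true'] at h
  obtain ⟨h1, h2, h3, h4, h5, h6, h7⟩ := h
  have x3 : x ^ 3 = 1 := by
    rw [pow_three]; exact (hx.mul (hx.mul hx)).eq M.faith (by rw [h1]; exact Act.one)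
  have y3 : y ^ 3 = 1 := by
    rw [pow_three]; exact (hy.mul (hy.mul hy)).eq M.faith (by rw [h2]; exact Act.one)
  have cm : x * y = y * x := (hx.mul hy).eq M.faith (by rw [h3]; exact hy.mul hx)
  have n1 := hx.ne Act.one h4
  have n2 := hy.ne Act.one h5
  have n3 := (hx.mul hy).ne Act.one h6
  have n4 := hx.ne hy h7
  have sq : ∀ z : Q, z ^ 3 = 1 → z ^ 2 = 1 → z = 1 := fun z a b => by
    rw [pow_succ, b, one_mul] at a; exact a
  refine ⟨x3, y3, cm, fun i j hi hj e => ?_⟩
  interval_cases i <;> interval_cases j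
  · exact ⟨rfl, rfl⟩
  · exact absurd (by simpa using e) n2
  · exact absurd (sq y y3 (by simpa using e)) n2
  · exact absurd (by simpa using e) n1
  · exact absurd (by simpa using e) n3
  · refine absurd ?_ n4
    calc x = x ^ 1 * y ^ 3 := by rw [y3]; simp
      _ = x ^ 1 * y ^ 2 * y := by group
      _ = y := by rw [e, one_mul]
  · exact absurd (sq x x3 (by simpa using e)) n1
  · refine absurd ?_ n4
    calc x = x * (x ^ 2 * y ^ 1) := by rw [e, mul_one]
      _ = x ^ 3 * y := by group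
      _ = y := by rw [x3, one_mul]
  · refine absurd (sq _ ?_ ?_) n3
    · rw [Commute.mul_pow cm, x3, y3, one_mul]
    · rw [Commute.mul_pow cm, e]

theorem bet_smul (g : Q) (v w : V) :
    bet (M.C.ψ (g • v)) (M.C.ψ (g • w)) = bet (M.C.ψ v) (M.C.ψ w) := by
  let S : Subgroup Q :=
    { carrier := {g | ∀ v w : V, bet (M.C.ψ (g • v)) (M.C.ψ (g • w)) = bet (M.C.ψ v) (M.C.ψ w)}
      mul_mem' := fun {a b} ha hb v w => by rw [mul_smul, mul_smul, ha, hb]
      one_mem' := fun v w => by rw [one_smul, one_smul]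
      inv_mem' := fun {a} ha v w => by rw [← ha, smul_inv_smul, smul_inv_smul] }
  have : S = ⊤ := M.gen8 S fun s hs v w => by
    obtain ⟨m, hm, rfl⟩ := M.C.surj v
    obtain ⟨n, hn, rfl⟩ := M.C.surj w
    have hA := M.act s (by omega)
    rw [hA m hm, hA n hn, M.C.ψ_φ (app_lt _ _), M.C.ψ_φ (app_lt _ _), M.C.ψ_φ hm, M.C.ψ_φ hn]
    refine lin_ext ((lin_bet_left _).comp (lin_app _)) (lin_bet_left _) (fun i hi => ?_) m hm
    refine lin_ext ((lin_bet_right _).comp (lin_app _)) (lin_bet_right _) (fun j hj => ?_) n hn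
    have h1 := all1_spec bet_ok s (Nat.zero_le _) (by show s < 0 + 8; omega)
    have h2 := all1_spec (all1_spec h1 i (Nat.zero_le _) (by show i < 0 + 20; omega)) j
      (Nat.zero_le _) (by show j < 0 + 20; omega)
    rw [app_pow _ hi, app_pow _ hj]
    exact Comp.beq_true.1 h2
  have hg : g ∈ S := this ▸ Subgroup.mem_top g
  exact hg v w

theorem top {v : V} (hv : v ≠ 0) : ∃ g : Q, (M.C.ψ (g • v)).testBit 19 = true := by
  by_contra! H
  apply hv
  have h1 : ∀ i, i < 20 → bet (M.C.ψ v) (row spB i) = 0 := by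
    intro i hi
    have h := all1_spec sp_ok i (Nat.zero_le _) (by show i < 0 + 20; omega)
    unfold spChk at h
    simp only [band_true, Comp.beq_true] at h
    obtain ⟨a, b, c, e⟩ := h
    have hW := (M.actL a).mul ((M.actL b).mul (M.actL c))
    have e1 := hW 1 (by norm_num)
    rw [app_mul, app_mul, e] at e1
    generalize M.T _ * (M.T _ * M.T _) = g at e1
    rw [← M.C.ψ_φ (row_lt spB i), ← e1, ← M.bet_smul g⁻¹, inv_smul_smul, M.C.ψ_φ (by norm_num)]
    have := bet_pow (j := 19) (by norm_num) (M.C.ψ_lt (g⁻¹ • v))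
    rw [Bool.eq_false_iff.2 (H g⁻¹)] at this
    exact this
  have h2 : ∀ n, n < 2 ^ 20 → bet (M.C.ψ v) n = 0 := by
    intro n hn
    have := lin_ext ((lin_bet_right (M.C.ψ v)).comp (lin_app spB)) lin_zero
      (fun i hi => by rw [app_pow _ hi]; exact h1 i hi) (app spI n) (app_lt _ _)
    rwa [← app_mul, sp_inv, app_idM hn] at this
  have h3 : M.C.ψ v = 0 := by
    apply Nat.eq_of_testBit_eq
    intro j
    rw [Nat.zero_testBit]
    by_cases hj : j < 20
    · have := bet_pow hj (M.C.ψ_lt v)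
      rw [h2 _ (Nat.pow_lt_pow_right (by norm_num) (by omega))] at this
      cases h : (M.C.ψ v).testBit j
      · rfl
      · rw [h] at this; cases this
    · exact Nat.testBit_lt_two_pow
        ((M.C.ψ_lt v).trans_le (Nat.pow_le_pow_right (by norm_num) (by omega)))
  rw [← M.C.φ_ψ v, h3, M.C.zero]

theorem clear {v : V} (hv : v ≠ 0) (t : ℕ) (ht : t ≤ 9) : ∃ g : Q,
    (M.C.ψ (g • v) >>> 10).testBit 9 = true ∧
      ∀ s, s < t → (M.C.ψ (g • v) >>> 10).testBit s = false := by
  induction t with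
  | zero =>
    obtain ⟨g, hg⟩ := M.top hv
    exact ⟨g, by rw [Nat.testBit_shiftRight]; exact hg, fun s hs => absurd hs (Nat.not_lt_zero _)⟩
  | succ t ih =>
    obtain ⟨g, h1, h2⟩ := ih (by omega)
    cases hb : (M.C.ψ (g • v) >>> 10).testBit t with
    | false =>
      refine ⟨g, h1, fun s hs => ?_⟩
      by_cases e : s = t
      · rw [e]; exact hb
      · exact h2 s (by omega)
    | true =>
      obtain ⟨k1, k2⟩ := kp_ok t (by omega)
      have hn := M.C.ψ_lt (g • v)
      set n := M.C.ψ (g • v) with hnd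
      have key := lin_ext ((lin_shift 10).comp (lin_app (tau (kp t))))
        ((lin_shift 10).xor ((lin_shiftL t).comp (lin_shift 19))) k2 n hn
      have e19 : n >>> 19 = 1 := by
        rw [Nat.testBit_shiftRight, Nat.testBit_eq_decide_div_mod_eq, decide_eq_true_eq] at h1
        rw [Nat.shiftRight_eq_div_pow]
        omega
      have e : M.C.ψ ((M.T (kp t) * g) • v) >>> 10 = n >>> 10 ^^^ 2 ^ t := by
        rw [mul_smul, ← M.C.φ_ψ (g • v), M.act _ k1 _ hn, M.C.ψ_φ (app_lt _ _)]
        simp only [e19, Nat.one_shiftLeft] at key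
        exact key
      refine ⟨M.T (kp t) * g, ?_, fun s hs => ?_⟩
      · rw [e, Nat.testBit_xor, h1, Nat.testBit_two_pow]
        simp; omega
      · rw [e, Nat.testBit_xor, Nat.testBit_two_pow]
        by_cases e : s = t
        · rw [e, hb]; simp
        · rw [h2 s (by omega)]; simp; omega

theorem rep_nine {r : ℕ} (hr : r ≤ 5) : repV r < 2 ^ 20 ∧
    ∃ x y : Q, Nine x y ∧ x • M.C.φ (repV r) = M.C.φ (repV r) ∧
      y • M.C.φ (repV r) = M.C.φ (repV r) := by
  have h := all1_spec rep_ok r (Nat.zero_le _) (by show r < 0 + 6; omega)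
  unfold repChk at h
  simp only [band_true, Comp.beq_true, ble_true] at h
  obtain ⟨h1, h2, h3, h4, h5, h6⟩ := h
  have hx := Act.word (C := M.C) (T := M.T) fun a ha => M.actL (allL_spec h1 a ha)
  have hy := Act.word (C := M.C) (T := M.T) fun a ha => M.actL (allL_spec h2 a ha)
  have hl : repV r < 2 ^ 20 := by change repV r ≤ 1048575 at h4; omega
  exact ⟨hl, _, _, M.nine_of hx hy h3, by rw [hx _ hl, h5], by rw [hy _ hl, h6]⟩

theorem to_rep (v : V) : ∃ r, r ≤ 5 ∧ ∃ g : Q, g • v = M.C.φ (repV r) := by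
  by_cases hv : v = 0
  · exact ⟨0, by norm_num, 1, by rw [hv, one_smul]; exact M.C.zero.symm⟩
  obtain ⟨g, h1, h2⟩ := M.clear hv 9 le_rfl
  have hn := M.C.ψ_lt (g • v)
  set n := M.C.ψ (g • v) with hnd
  have e : n >>> 10 = 2 ^ 9 := by
    apply Nat.eq_of_testBit_eq
    intro s
    rw [Nat.testBit_two_pow]
    rcases lt_trichotomy s 9 with h | h | h
    · rw [h2 s h]; simp; omega
    · rw [h, h1]; simp
    · rw [Nat.testBit_shiftRight, Nat.testBit_lt_two_pow
        (hn.trans_le (Nat.pow_le_pow_right (by norm_num) (by omega)))]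
      simp; omega
  rw [Nat.shiftRight_eq_div_pow] at e
  have e2 : Nat.add (nat_lit 524288) (n % 1024) = n := by
    show 524288 + n % 1024 = n
    omega
  have h := allR_zero nf_ok (n % 1024) (Nat.mod_lt _ (by norm_num))
  unfold nfChk at h
  simp only [band_true, Comp.beq_true, ble_true] at h
  obtain ⟨a, b, c, d, hr, hh⟩ := h
  have hW := (M.actL a).mul ((M.actL b).mul ((M.actL c).mul (M.actL d)))
  have e1 := hW n hn
  rw [e2] at hh
  rw [app_mul, app_mul, app_mul, hh, hnd, M.C.φ_ψ, ← mul_smul] at e1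
  exact ⟨_, hr, _, e1⟩

include M in
theorem nine (v : V) : ∃ x y : Q, Nine x y ∧ x • v = v ∧ y • v = v := by
  obtain ⟨r, hr, g, hg⟩ := M.to_rep v
  obtain ⟨-, x, y, h, hx, hy⟩ := M.rep_nine hr
  rw [← hg] at hx hy
  refine ⟨_, _, h.conj g⁻¹, ?_, ?_⟩
  · rw [inv_inv, mul_smul, mul_smul, hx, inv_smul_smul]
  · rw [inv_inv, mul_smul, mul_smul, hy, inv_smul_smul]

include M in
theorem hyp (D : AddSubgroup V) (hD : D.index = 2) :
    ∃ x y : Q, Nine x y ∧ (∀ v ∈ D, x • v ∈ D) ∧ ∀ v ∈ D, y • v ∈ D := by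
  classical
  obtain ⟨d, hd, hd'⟩ : ∃ d, d < 2 ^ 20 ∧ ∀ i, i < 20 →
      (bet (2 ^ i) d = 0 ↔ M.C.φ (2 ^ i) ∈ D) := by
    have aux : ∀ k, k ≤ 20 → ∃ d, d < 2 ^ 20 ∧ ∀ i, i < 20 →
        (bet (2 ^ i) d = 0 ↔ (i < k → M.C.φ (2 ^ i) ∈ D)) := by
      intro k
      induction k with
      | zero => exact fun _ => ⟨0, by norm_num, fun i _ => by simp [(lin_bet_right _).zero]⟩
      | succ k ih =>
        intro hk
        obtain ⟨d, h1, h2⟩ := ih (by omega)
        by_cases hm : M.C.φ (2 ^ k) ∈ D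
        · refine ⟨d, h1, fun i hi => ?_⟩
          rw [h2 i hi]
          refine ⟨fun h hi' => ?_, fun h hi' => h (by omega)⟩
          by_cases e : i = k
          · rw [e]; exact hm
          · exact h (by omega)
        · refine ⟨d ^^^ 2 ^ (19 - k), Nat.xor_lt_two_pow h1
            (Nat.pow_lt_pow_right (by norm_num) (by omega)), fun i hi => ?_⟩
          have e0 := lin_bet_right (2 ^ i) d (2 ^ (19 - k))
          simp only at e0
          rw [e0, bet_tab k (by omega) i hi, Nat.testBit_two_pow]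
          by_cases e : i = k
          · subst e
            rw [(h2 i hi).2 (fun h => absurd h (lt_irrefl _))]
            simp [hm]
          · simp only [e, decide_false, Bool.toNat_false, Nat.xor_zero]
            rw [h2 i hi]
            exact ⟨fun h hi' => h (by omega), fun h hi' => h (by omega)⟩
    obtain ⟨d, h1, h2⟩ := aux 20 le_rfl
    exact ⟨d, h1, fun i hi => by rw [h2 i hi]; simp [hi]⟩
  have key : ∀ n, n < 2 ^ 20 → (bet n d = 0 ↔ M.C.φ n ∈ D) := by
    refine bit_ind ?_ hd' fun m n _ _ h1 h2 => ?_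
    · rw [(lin_bet_left d).zero, M.C.zero]; simp
    · have e0 := lin_bet_left d m n
      simp only at e0
      rw [e0, M.C.xor, AddSubgroup.add_mem_iff_of_index_two hD, ← h1, ← h2]
      have a := bet_lt m d
      have b := bet_lt n d
      interval_cases bet m d <;> interval_cases bet n d <;> simp
  have key' : ∀ v, v ∈ D ↔ bet (M.C.ψ v) (M.C.ψ (M.C.φ d)) = 0 := fun v => by
    rw [M.C.ψ_φ hd, key _ (M.C.ψ_lt v), M.C.φ_ψ]
  obtain ⟨x, y, h, hx, hy⟩ := M.nine (M.C.φ d)
  refine ⟨x, y, h, fun v hv => ?_, fun v hv => ?_⟩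
  · rw [key', ← hx, M.bet_smul]; exact (key' v).1 hv
  · rw [key', ← hy, M.bet_smul]; exact (key' v).1 hv

end Model

theorem fix_le_of_sylow [Finite Q] [Finite V] {p : ℕ} (hp : p.Prime) (hQ : ¬ p ^ 2 ∣ Nat.card Q)
    {g g0 : Q} (hg : orderOf g = p) (h0 : orderOf g0 = p) : fixN V g ≤ fixN V g0 := by
  haveI := Fact.mk hp
  have syl : ∀ x : Q, orderOf x = p → ∃ P : Sylow p Q, (P : Subgroup Q) = Subgroup.zpowers x := by
    intro x hx
    have h1 : IsPGroup p (Subgroup.zpowers x) :=
      IsPGroup.of_card (n := 1) (by rw [Nat.card_zpowers, hx, pow_one])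
    obtain ⟨P, hP⟩ := h1.exists_le_sylow
    refine ⟨P, (Subgroup.eq_of_le_of_card_ge hP ?_).symm⟩
    obtain ⟨k, hk⟩ := P.isPGroup'.exists_card_eq
    rw [Nat.card_zpowers, hx, hk]
    have : k ≤ 1 := by
      by_contra h
      exact hQ ((pow_dvd_pow p (by omega)).trans (hk ▸ Subgroup.card_subgroup_dvd_card _))
    calc p ^ k ≤ p ^ 1 := Nat.pow_le_pow_right hp.pos this
      _ = p := pow_one p
  obtain ⟨P, hP⟩ := syl g hg
  obtain ⟨P0, hP0⟩ := syl g0 h0
  obtain ⟨c, hc⟩ := MulAction.exists_smul_eq Q P0 P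
  have hm : c * g0 * c⁻¹ ∈ Subgroup.zpowers g := by
    rw [← hP, ← hc, Sylow.coe_subgroup_smul, hP0]
    exact Subgroup.smul_mem_pointwise_smul g0 (MulAut.conj c) _ (Subgroup.mem_zpowers g0)
  obtain ⟨k, hk⟩ := Subgroup.mem_zpowers_iff.1 hm
  rw [← fixN_conj c g0, ← hk]
  exact Nat.card_mono (Set.toFinite _) (MulAction.fixedBy_subset_fixedBy_zpow V g k)

namespace Model
variable (M : Model Q V)

include M in
theorem five [Finite Q] (h : Nat.card Q ∣ 2 ^ 15 * 3 ^ 7 * 5 * 7 * 11) (g : Q)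
    (hg : orderOf g = 5) : fixN V g ≤ 2 ^ 15 := by
  haveI := M.C.finite
  haveI : Fact (Nat.Prime 5) := ⟨by norm_num⟩
  have hW : Act M.C _ (wM tau [0, 1, 2, 3]) :=
    Act.word (T := M.T) fun a ha => M.act a (by simp at ha; omega)
  refine (fix_le_of_sylow (by norm_num) (fun h' => by have := h'.trans h; norm_num at this) hg
    (orderOf_eq_prime ?_ (hW.ne Act.one (by decide +kernel)))).trans
    (hW.fix_le (r := 5) (by decide +kernel) (by norm_num))
  have h2 := hW.mul hW
  have h5 := hW.mul (h2.mul h2)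
  refine Eq.trans (by simp only [pow_succ, pow_zero, one_mul, mul_assoc]) (h5.eq M.faith ?_)
  generalize hX : wM tau [0, 1, 2, 3] = X
  rw [show mul X (mul (mul X X) (mul X X)) = idM by subst hX; decide +kernel]
  exact Act.one

include M in
theorem seven [Finite Q] (h : Nat.card Q ∣ 2 ^ 15 * 3 ^ 7 * 5 * 7 * 11) (g : Q)
    (hg : orderOf g = 7) : fixN V g ≤ 2 ^ 13 := by
  haveI := M.C.finite
  haveI : Fact (Nat.Prime 7) := ⟨by norm_num⟩
  have hW : Act M.C _ (wM tau [156, 73, 78, 319, 416, 420]) :=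
    Act.word (T := M.T) fun a ha => M.act a (by simp at ha; omega)
  refine (fix_le_of_sylow (by norm_num) (fun h' => by have := h'.trans h; norm_num at this) hg
    (orderOf_eq_prime ?_ (hW.ne Act.one (by decide +kernel)))).trans
    (hW.fix_le (r := 7) (by decide +kernel) (by norm_num))
  have h3 := hW.mul (hW.mul hW)
  have h7 := hW.mul (h3.mul h3)
  refine Eq.trans (by simp only [pow_succ, pow_zero, one_mul, mul_assoc]) (h7.eq M.faith ?_)
  generalize hX : wM tau [156, 73, 78, 319, 416, 420] = X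
  rw [show mul X (mul (mul X (mul X X)) (mul X (mul X X))) = idM by subst hX; decide +kernel]
  exact Act.one

include M in
theorem facts [Finite Q] (h : Nat.card Q ∣ 2 ^ 15 * 3 ^ 7 * 5 * 7 * 11)
    (hc : ∀ z : Q, (∀ g : Q, z * g = g * z) → z = 1) : ModFacts Q V :=
  ⟨M.nine, M.hyp, M.gen, M.pair, M.invFact, h, M.five h, M.seven h, hc⟩

end Model

end

end Cfsg.Agent.U6
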