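import Cfsg.Agent.U6.Defs

/-! The order of `SU₆(2)`. -/

set_option autoImplicit false

namespace Cfsg.Agent.U6

open Cfsg.Agent.Amalg Set

section
variable {F : Type*} [Field F] [Fintype F] {q : ℕ} [hF : Fact (Fintype.card F = q ^ 2)]

/-- the number of vectors of given norm -/
noncomputable def nv (F : Type*) [Field F] [Fintype F] (q : ℕ) [Fact (Fintype.card F = q ^ 2)]
    (n : ℕ) (c : F) : ℕ := Nat.card {v : Fin n → F // hf q v v = c}

theorem nv_succ (n : ℕ) (c : F) : nv F q (n + 1) c = ∑ x : F, nv F q n (c - x * cj q x) := by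
  have e : {v : Fin (n + 1) → F // hf q v v = c} ≃
      Σ x : F, {w : Fin n → F // hf q w w = c - x * cj q x} :=
    ⟨fun v => ⟨v.1 0, Fin.tail v.1, by
        have := v.2
        rw [hf, Fin.sum_univ_succ] at this
        exact eq_sub_of_add_eq' this⟩,
      fun w => ⟨Fin.cons w.1 w.2.1, by
        rw [hf, Fin.sum_univ_succ]
        exact add_eq_of_eq_sub' w.2.2⟩,
      fun v => Subtype.ext (Fin.cons_self_tail _), fun w => rfl⟩
  rw [nv, Nat.card_congr e, Nat.card_sigma]
  rfl

theorem card_su_succ {m : ℕ} (hm : 1 ≤ m) :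
    Nat.card (SU (m + 1) F q) = nv F q (m + 1) 1 * Nat.card (SU m F q) := by
  rw [← Nat.card_congr (MulAction.orbitProdStabilizerEquivGroup (SU (m + 1) F q)
    (ue 0 : Fin (m + 1) → F)), Nat.card_prod, ← card_uFix_Ico (N := m + 1) (k := 1) (by omega)]
  congr 1
  · refine Nat.card_congr (Equiv.subtypeEquivRight fun v => ⟨?_, fun h => ?_⟩)
    · rintro ⟨g, rfl⟩
      rw [hf_smul_smul, hf_ue_self (by omega)]
    · obtain ⟨g, -, e⟩ := All.u_trans (k := 0) le_rfl (by omega) ⟨usupp_univ v, h⟩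
      exact ⟨g, e⟩
  · congr 2
    ext g
    exact ⟨fun h => add_comm m 1 ▸ mem_uFix_succ (mem_uFix_univ g) h, fun h => h 0 (by simp)⟩

omit [Fintype F] hF in
theorem card_su_one : Nat.card (SU 1 F q) = 1 :=
  Nat.card_eq_one_iff_unique.2 ⟨⟨fun g h => su_ext (by
    ext i j
    rw [Subsingleton.elim i 0, Subsingleton.elim j 0, ← Matrix.det_fin_one (suM g),
      ← Matrix.det_fin_one (suM h), suM_det, suM_det])⟩, ⟨1⟩⟩

end

variable {F : Type*} [Field F] [Fintype F] [hF : Fact (Fintype.card F = 2 ^ 2)]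

theorem nv_two (n : ℕ) (c : F) : nv F 2 (n + 1) c = nv F 2 n c + 3 * nv F 2 n (c - 1) := by
  classical
  rw [nv_succ, ← Finset.add_sum_erase _ _ (Finset.mem_univ 0), zero_mul, sub_zero,
    Finset.sum_congr rfl (g := fun _ => nv F 2 n (c - 1)) fun x hx => by
      rw [cj_apply, ← pow_succ', show 2 + 1 = Fintype.card F - 1 by rw [hF.out]; rfl,
        FiniteField.pow_card_sub_one_eq_one x (Finset.ne_of_mem_erase hx)],
    Finset.sum_const, Finset.card_erase_of_mem (Finset.mem_univ _), Finset.card_univ, hF.out]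
  rfl

theorem card_su6 : Nat.card (SU 6 F 2) = 2 ^ 15 * 3 ^ 7 * 5 * 7 * 11 := by
  have h2 : (0 : F) - 1 = 1 := by
    have := FiniteField.cast_card_eq_zero F
    rw [hF.out, Nat.cast_pow, pow_eq_zero_iff two_ne_zero, Nat.cast_ofNat] at this
    linear_combination -this
  have a0 : nv F 2 0 0 = 1 := Nat.card_eq_one_iff_unique.2 ⟨inferInstance, ⟨⟨0, hf_zero_left _⟩⟩⟩
  have b0 : nv F 2 0 1 = 0 := by
    have : IsEmpty {v : Fin 0 → F // hf 2 v v = 1} := ⟨fun v => by simpa [hf] using v.2⟩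
    exact Nat.card_of_isEmpty
  have a := fun n => nv_two n (0 : F)
  have b := fun n => nv_two n (1 : F)
  simp only [h2, sub_self] at a b
  rw [card_su_succ (m := 5) (by norm_num), card_su_succ (m := 4) (by norm_num),
    card_su_succ (m := 3) (by norm_num), card_su_succ (m := 2) (by norm_num),
    card_su_succ (m := 1) (by norm_num), card_su_one]
  simp only [a, b, a0, b0]
  norm_num

end Cfsg.Agent.U6
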