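import Cfsg.Agent.U6.ClsC

/-! The action of a non-monomial transvection is determined by its relations. -/

set_option autoImplicit false
set_option maxRecDepth 100000

namespace Cfsg.Agent.U6

open Cfsg.Agent.Comp

noncomputable section

/-- matrices of the words for the basis vectors -/
def rwM (i : ℕ) : ℕ := lk[m400, rwT, Nat.mul (nat_lit 400) i]

/-- module generators for the basis vectors -/
def rj (i : ℕ) : ℕ := lk[nat_lit 3, rjT, Nat.mul (nat_lit 2) i]

/-- the candidate matrix -/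
def candR (y0 y1 y2 : ℕ) : ℕ := pack fun i => app (rwM i) (nth [y0, y1, y2] (rj i))

/-- the test of a candidate -/
def candChk (R : ℕ) : Bool :=
  bor (!(Nat.beq (app R (app R (nat_lit 1))) (nat_lit 1) &:
      Nat.beq (app R (app R (nat_lit 2))) (nat_lit 2) &:
      Nat.beq (app R (app R (nat_lit 16))) (nat_lit 16)))
    (bor (!meq (mul R (mul (tm 6) R)) (mul (tm 6) (mul R (tm 6)))) (Nat.beq R (tm 7)))

theorem cand_ok : all1 (fun a => all1 (fun b => all1 (fun c =>
    candChk (candR (app cAB a) (app cAB b) (app cBB c))) (nat_lit 0) (nat_lit 8))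
    (nat_lit 0) (nat_lit 16)) (nat_lit 0) (nat_lit 16) = true := by decide +kernel

theorem rw_ok : ∀ i, i < 20 → rwM i = wM tm (nthW rwW i) ∧ (∀ a ∈ nthW rwW i, a ∈ [0, 1, 2, 4, 5]) ∧
    app (rwM i) (nth [1, 2, 16] (rj i)) = 2 ^ i ∧ rj i < 3 := by decide +kernel

/-- the relation for an element of order three acting without fixed points -/
def neM : ℕ := Nat.xor (Nat.xor idM (mul (tm 4) (tm 5))) (mul (mul (tm 4) (tm 5)) (mul (tm 4) (tm 5)))

/-- a matrix minus the identity -/
def nM (M : ℕ) : ℕ := Nat.xor M idM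

theorem certA {y : ℕ} (hy : y < 2 ^ 20) (h0 : app (nM (tm 0)) y = 0) (h1 : app (nM (tm 1)) y = 0)
    (h4 : app (nM (tm 4)) y = 0) (h5 : app (nM (tm 5)) y = 0) : ∃ a, a < 16 ∧ y = app cAB a := by
  have key := lin_ext lin_id ((((((lin_app cAB).comp (lin_app cAF)).xor
    ((lin_app cAL0).comp (lin_app (nM (tm 0))))).xor
    ((lin_app cAL1).comp (lin_app (nM (tm 1))))).xor
    ((lin_app cAL2).comp (lin_app (nM (tm 4))))).xor
    ((lin_app cAL3).comp (lin_app (nM (tm 5))))) (by decide +kernel) y hy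
  simp only [h0, h1, h4, h5, app_zero, Nat.xor_zero] at key
  exact ⟨_, app_lt_pow (c := 4) (by decide +kernel) y, key⟩

theorem certB {y : ℕ} (hy : y < 2 ^ 20) (h0 : app (nM (tm 0)) y = 0) (h1 : app (nM (tm 2)) y = 0)
    (h4 : app (nM (wM tm [4, 1, 2, 0, 1])) y = 0) (h5 : app neM y = 0) :
    ∃ a, a < 8 ∧ y = app cBB a := by
  have key := lin_ext lin_id ((((((lin_app cBB).comp (lin_app cBF)).xor
    ((lin_app cBL0).comp (lin_app (nM (tm 0))))).xor
    ((lin_app cBL1).comp (lin_app (nM (tm 2))))).xor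
    ((lin_app cBL2).comp (lin_app (nM (wM tm [4, 1, 2, 0, 1]))))).xor
    ((lin_app cBL3).comp (lin_app neM))) (by decide +kernel) y hy
  simp only [h0, h1, h4, h5, app_zero, Nat.xor_zero] at key
  exact ⟨_, app_lt_pow (c := 3) (by decide +kernel) y, key⟩

attribute [local irreducible] mul app tm rk meq pack row wM rwM rj

variable {Q : Type*} [Group Q] {V : Type*} [AddCommGroup V] [DistribMulAction Q V] {C : Coord V}

theorem fix_img {g r : Q} {M x : ℕ} (hg : Act C g M) (hc : r * g = g * r) (hx : x < 2 ^ 20)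
    (hf : app M x = x) : app (nM M) (C.ψ (r • C.φ x)) = 0 := by
  unfold nM
  rw [app_xorM, app_idM (C.ψ_lt _), Nat.xor_eq_zero_iff]
  refine C.inj (app_lt _ _) (C.ψ_lt _) ?_
  rw [← hg _ (C.ψ_lt _), C.φ_ψ, ← mul_smul, ← hc, mul_smul, hg x hx, hf]

theorem rdet {T : ℕ → Q} (h : ∀ t, t < 7 → Act C (T t) (tm t)) {r : Q}
    (hc : ∀ s ∈ [0, 1, 2, 4, 5], r * T s = T s * r) (h2 : r * r = 1)
    (hb : r * (T 6 * r) = T 6 * (r * T 6)) : Act C r (tm 7) := by
  have hw : ∀ l : List ℕ, (∀ a ∈ l, a ∈ [0, 1, 2, 4, 5]) →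
      Act C (l.map T).prod (wM tm l) ∧ r * (l.map T).prod = (l.map T).prod * r := by
    intro l hl
    refine ⟨Act.word fun a ha => h a (by have := hl a ha; simp at this; omega), ?_⟩
    refine Commute.list_prod_right _ _ fun x hx => ?_
    obtain ⟨a, ha, rfl⟩ := List.mem_map.1 hx
    exact hc a (hl a ha)
  have c0 := hc 0 (by simp)
  have c1 := hc 1 (by simp)
  have c2 := hc 2 (by simp)
  have c4 := hc 4 (by simp)
  have c5 := hc 5 (by simp)
  have a0 := h 0 (by norm_num)
  have a1 := h 1 (by norm_num)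
  have a2 := h 2 (by norm_num)
  have a4 := h 4 (by norm_num)
  have a5 := h 5 (by norm_num)
  have a6 := h 6 (by norm_num)
  obtain ⟨m0, l0, e0⟩ := certA (C.ψ_lt (r • C.φ 1))
    (fix_img a0 c0 (by norm_num) (by decide +kernel)) (fix_img a1 c1 (by norm_num) (by decide +kernel))
    (fix_img a4 c4 (by norm_num) (by decide +kernel)) (fix_img a5 c5 (by norm_num) (by decide +kernel))
  obtain ⟨m1, l1, e1⟩ := certA (C.ψ_lt (r • C.φ 2))
    (fix_img a0 c0 (by norm_num) (by decide +kernel)) (fix_img a1 c1 (by norm_num) (by decide +kernel))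
    (fix_img a4 c4 (by norm_num) (by decide +kernel)) (fix_img a5 c5 (by norm_num) (by decide +kernel))
  obtain ⟨w1, w2⟩ := hw [4, 1, 2, 0, 1] (by simp)
  have hne : ∀ n, n < 2 ^ 20 → C.φ (app neM n) =
      C.φ n + (T 4 * T 5) • C.φ n + (T 4 * T 5) • (T 4 * T 5) • C.φ n := fun n hn => by
    unfold neM
    rw [app_xorM, app_xorM, app_idM hn, C.xor, C.xor, ← mul_smul, (a4.mul a5) n hn,
      ((a4.mul a5).mul (a4.mul a5)) n hn]
  have ce : ∀ v : V, (T 4 * T 5) • r • v = r • (T 4 * T 5) • v := fun v => by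
    rw [← mul_smul, ← mul_smul, mul_assoc, ← c5, ← mul_assoc, ← c4, mul_assoc]
  obtain ⟨m2, l2, e2⟩ := certB (C.ψ_lt (r • C.φ 16))
    (fix_img a0 c0 (by norm_num) (by decide +kernel)) (fix_img a2 c2 (by norm_num) (by decide +kernel))
    (fix_img w1 w2 (by norm_num) (by decide +kernel)) (C.inj0 _ (app_lt _ _) (by
      rw [hne _ (C.ψ_lt _), C.φ_ψ, ce, ce, ← smul_add, ← smul_add, ← hne _ (by norm_num),
        show app neM 16 = 0 by decide +kernel, C.zero, smul_zero]))
  have hR : Act C r (candR (app cAB m0) (app cAB m1) (app cBB m2)) := by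
    refine Act.of_basis fun i hi => ?_
    obtain ⟨k1, k2, k3, k4⟩ := rw_ok i hi
    obtain ⟨k5, k6⟩ := hw _ k2
    rw [← k1] at k5
    unfold candR
    rw [row_pack (fun _ => app_lt _ _) hi, ← k3, ← e0, ← e1, ← e2]
    generalize rj i = j at k4
    have : ∀ x, x < 2 ^ 20 → r • C.φ (app (rwM i) x) = C.φ (app (rwM i) (C.ψ (r • C.φ x))) :=
      fun x hx => by
        rw [← k5 x hx, ← k5 _ (C.ψ_lt _), C.φ_ψ, ← mul_smul, k6, mul_smul]
    interval_cases j
    · exact this 1 (by norm_num)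
    · exact this 2 (by norm_num)
    · exact this 16 (by norm_num)
  have hk := all1_spec (all1_spec (all1_spec cand_ok m0 (Nat.zero_le _) (by
    show m0 < 0 + 16; omega)) m1 (Nat.zero_le _) (by show m1 < 0 + 16; omega)) m2 (Nat.zero_le _)
    (by show m2 < 0 + 8; omega)
  generalize candR (app cAB m0) (app cAB m1) (app cBB m2) = R at hR hk
  have hRR : ∀ n, n < 2 ^ 20 → Nat.beq (app R (app R n)) n = true := fun n hn => by
    have := (hR.mul hR).app_eq (h2 ▸ Act.one) hn
    rw [app_mul, app_idM hn] at this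
    exact Comp.beq_true.2 this
  have hbr := (hR.mul (a6.mul hR)).meq (hb ▸ a6.mul (hR.mul a6))
  unfold candChk at hk
  rw [hRR (nat_lit 1) (by decide), hRR (nat_lit 2) (by decide), hRR (nat_lit 16) (by decide), hbr,
    bor_true, bor_true] at hk
  rcases hk with hk | hk | hk
  · cases hk
  · cases hk
  · rw [← Comp.beq_true.1 hk]; exact hR

end

end Cfsg.Agent.U6
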