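import Cfsg.Agent.U6.WtC

/-! The action of the monomial group on the module. -/

set_option autoImplicit false
set_option maxRecDepth 100000

namespace Cfsg.Agent.U6

open Equiv

attribute [local irreducible] mul app row tm ch rp ek kt gd gs

theorem sg_add (d d' : Ex) : sg (d + d') = sg d + sg d' := by simp only [sg, Pi.add_apply]; ring

theorem sg_neg (d : Ex) : sg (-d) = -sg d := by simp only [sg, Pi.neg_apply]; ring

theorem sg_zero : sg 0 = 0 := by simp [sg]

theorem chi_add (a d d' : Ex) : chi a (d + d') = chi a d + chi a d' := by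
  simp only [chi, Pi.add_apply]; ring

theorem chi_neg (a d : Ex) : chi a (-d) = -chi a d := by simp only [chi, Pi.neg_apply]; ring

theorem chi_zero (a : Ex) : chi a 0 = 0 := by simp [chi]

theorem sg_eq (d : Ex) : sg d = ∑ i, d i := by rw [Fin.sum_univ_six]; rfl

theorem chi_eq (a d : Ex) : chi a d = ∑ i, a i * d i := by rw [Fin.sum_univ_six]; rfl

theorem sg_perm (d : Ex) (s : Perm (Fin 6)) : sg (fun i => d (s i)) = sg d := by
  rw [sg_eq, sg_eq]; exact Equiv.sum_comp s d

theorem chi_perm (a d : Ex) (s : Perm (Fin 6)) :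
    chi (fun i => a (s i)) (fun i => d (s i)) = chi a d := by
  rw [chi_eq, chi_eq]; exact Equiv.sum_comp s fun i => a i * d i

/-- the second orbit -/
def up1 (j : Fin 15) : Fin 40 := ⟨10 + j.1, by omega⟩

/-- the third orbit -/
def up2 (j : Fin 15) : Fin 40 := ⟨25 + j.1, by omega⟩

theorem ba_up : ∀ k, ba (up k) = 0 := by decide

theorem z3 (c : ZMod 3) : c = 0 ∨ c = 1 ∨ c = 2 := by revert c; decide

/-- An action of the monomial group. -/
structure WS (Q : Type*) [Group Q] (V : Type*) [AddCommGroup V] [DistribMulAction Q V] where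
  two : ∀ v : V, v + v = 0
  card : Nat.card V = 2 ^ 20
  D : Ex → Q
  P : Perm (Fin 6) →* Q
  Dadd : ∀ d d', sg d = 0 → sg d' = 0 → D (d + d') = D d * D d'
  D1 : D (fun _ => 1) = 1
  DP : ∀ s d, sg d = 0 → P s * D d = D (fun i => d (s⁻¹ i)) * P s
  nt : ∃ d, ∃ v : V, sg d = 0 ∧ D d • v ≠ v

variable {Q : Type*} [Group Q] {V : Type*} [AddCommGroup V] [DistribMulAction Q V]

namespace WS
variable (S : WS Q V)

theorem D0 : S.D 0 = 1 := by
  have := S.Dadd 0 0 sg_zero sg_zero
  rw [add_zero] at this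
  exact left_eq_mul.1 this

theorem Dsm {d d' : Ex} (h : sg d = 0) (h' : sg d' = 0) (v : V) :
    S.D d • S.D d' • v = S.D (d + d') • v := by rw [S.Dadd d d' h h', mul_smul]

include S in
theorem neg (v : V) : -v = v := neg_eq_of_add_eq_zero_left (S.two v)

include S in
theorem fin : Finite V := Nat.finite_of_card_ne_zero (by rw [S.card]; norm_num)

/-- the weight space -/
def W (a : Ex) : AddSubgroup V where
  carrier := {v | (∀ d, sg d = 0 → chi a d = 0 → S.D d • v = v) ∧
    ∀ d, sg d = 0 → chi a d ≠ 0 → v + S.D d • v + S.D d • S.D d • v = 0}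
  add_mem' {x y} hx hy := ⟨fun d h1 h2 => by rw [smul_add, hx.1 d h1 h2, hy.1 d h1 h2],
    fun d h1 h2 => by
      rw [smul_add, smul_add]
      have := congrArg₂ (· + ·) (hx.2 d h1 h2) (hy.2 d h1 h2)
      simp only [add_zero] at this
      rw [← this]; abel⟩
  zero_mem' := ⟨fun d _ _ => smul_zero _, fun d _ _ => by simp⟩
  neg_mem' {x} hx := by rw [S.neg]; exact hx

theorem D_mem {a d : Ex} (hd : sg d = 0) {v : V} (hv : v ∈ S.W a) : S.D d • v ∈ S.W a := by
  have cm : ∀ d' (w : V), sg d' = 0 → S.D d' • S.D d • w = S.D d • S.D d' • w := fun d' w h => by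
    rw [S.Dsm h hd, S.Dsm hd h, add_comm]
  refine ⟨fun d' h1 h2 => by rw [cm _ _ h1, hv.1 d' h1 h2], fun d' h1 h2 => ?_⟩
  rw [cm _ _ h1, cm _ _ h1, ← smul_add, ← smul_add, hv.2 d' h1 h2, smul_zero]

theorem DP' (s : Perm (Fin 6)) {d : Ex} (hd : sg d = 0) (v : V) :
    S.D d • S.P s • v = S.P s • S.D (fun i => d (s i)) • v := by
  rw [← mul_smul, ← mul_smul, S.DP s _ (by rw [sg_perm]; exact hd)]
  simp

theorem P_mem {a : Ex} (s : Perm (Fin 6)) {v : V} (hv : v ∈ S.W a) :
    S.P s • v ∈ S.W fun i => a (s⁻¹ i) := by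
  have e : ∀ d : Ex, chi (fun i => a (s⁻¹ i)) d = chi a fun i => d (s i) := fun d => by
    rw [← chi_perm _ _ s]; simp
  refine ⟨fun d h1 h2 => ?_, fun d h1 h2 => ?_⟩
  · rw [S.DP' s h1, hv.1 _ (by rw [sg_perm]; exact h1) (by rw [← e]; exact h2)]
  · rw [S.DP' s h1, S.DP' s h1, ← smul_add, ← smul_add,
      hv.2 _ (by rw [sg_perm]; exact h1) (by rw [← e]; exact h2), smul_zero]

theorem card_W (k : Fin 40) : Nat.card (S.W (ch k)) = Nat.card (S.W (ch (ba k))) := by
  have e : ch k = fun i => ch (ba k) ((rp k)⁻¹ i) := funext (ch_rp k)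
  have e' : ch (ba k) = fun i => ch k ((rp k)⁻¹⁻¹ i) := by
    funext i; rw [e]; simp
  refine Nat.card_congr
    { toFun := fun v => ⟨S.P (rp k)⁻¹ • v.1, by rw [e']; exact S.P_mem _ v.2⟩
      invFun := fun v => ⟨S.P (rp k) • v.1, by rw [e]; exact S.P_mem _ v.2⟩
      left_inv := fun v => Subtype.ext ?_
      right_inv := fun v => Subtype.ext ?_ }
  · show S.P _ • S.P _ • v.1 = v.1
    rw [map_inv, smul_inv_smul]
  · show S.P _ • S.P _ • v.1 = v.1
    rw [map_inv, inv_smul_smul]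

theorem D_eq {a d e : Ex} (hd : sg d = 0) (he : sg e = 0) (h : chi a d = chi a e) {v : V}
    (hv : v ∈ S.W a) : S.D d • v = S.D e • v := by
  have h1 : sg (d + -e) = 0 := by rw [sg_add, sg_neg, hd, he]; simp
  have := hv.1 (d + -e) h1 (by rw [chi_add, chi_neg, h]; simp)
  rw [← this, S.Dsm he h1, this]
  congr 2; abel

theorem D_sq {a e : Ex} (he : sg e = 0) (h : chi a e ≠ 0) {v : V} (hv : v ∈ S.W a) :
    S.D e • S.D e • v = v + S.D e • v := by
  have := hv.2 e he h
  rwa [add_eq_zero_iff_eq_neg', S.neg] at this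

theorem D_ne {a e : Ex} (he : sg e = 0) (h : chi a e ≠ 0) {v : V} (hv : v ∈ S.W a) (h0 : v ≠ 0) :
    S.D e • v ≠ v := by
  intro h1
  have := S.D_sq he h hv
  rw [h1, h1, S.two] at this
  exact h0 this

theorem four {a e : Ex} (he : sg e = 0) (h : chi a e ≠ 0) {v : V} (hv : v ∈ S.W a) (h0 : v ≠ 0) :
    ∃ f : Fin 4 → S.W a, Function.Injective f ∧
      ∀ i, (f i : V) = ![0, v, S.D e • v, v + S.D e • v] i := by
  have h1 := S.D_ne he h hv h0
  have h2 : S.D e • v ≠ 0 := fun h => h0 ((smul_eq_zero_iff_eq _).1 h)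
  have h3 : v + S.D e • v ≠ 0 := fun h => h1 (by
    rwa [add_eq_zero_iff_eq_neg', S.neg] at h)
  refine ⟨![0, ⟨v, hv⟩, ⟨_, S.D_mem he hv⟩, ⟨_, (S.W a).add_mem hv (S.D_mem he hv)⟩], ?_, ?_⟩
  · intro i j hij
    have := congrArg Subtype.val hij
    fin_cases i <;> fin_cases j <;>
      simp [h0, h0.symm, h1, h1.symm, h2, h2.symm, h3, h3.symm] at this ⊢
  · intro i; fin_cases i <;> rfl

/-- partial norm -/
def sm (a : Ex) (c : ZMod 3) (v : V) : V :=
  ∑ d ∈ Finset.univ.filter fun d : Ex => sg d = 0 ∧ chi a d = c, S.D d • v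

/-- the norm -/
def eE (v : V) : V := ∑ d ∈ Finset.univ.filter fun d : Ex => sg d = 0, S.D d • v

theorem sm_shift (a : Ex) (c : ZMod 3) (v : V) {d : Ex} (hd : sg d = 0) :
    S.D d • S.sm a c v = S.sm a (chi a d + c) v := by
  unfold sm
  rw [Finset.smul_sum]
  refine Finset.sum_equiv (Equiv.addLeft d) (fun x => ?_) (fun x hx => ?_)
  · simp [sg_add, chi_add, hd]
  · exact S.Dsm hd (Finset.mem_filter.1 hx).2.1 v

theorem eE_shift (v : V) {d : Ex} (hd : sg d = 0) : S.D d • S.eE v = S.eE v := by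
  unfold eE
  rw [Finset.smul_sum]
  refine Finset.sum_equiv (Equiv.addLeft d) (fun x => ?_) (fun x hx => ?_)
  · simp [sg_add, hd]
  · exact S.Dsm hd (Finset.mem_filter.1 hx).2 v

theorem eE_eq (a : Ex) (v : V) : S.eE v = S.sm a 0 v + S.sm a 1 v + S.sm a 2 v := by
  unfold eE sm
  rw [← Finset.sum_fiberwise _ (fun d => chi a d)]
  have : ∀ f : ZMod 3 → V, ∑ c, f c = f 0 + f 1 + f 2 := fun f => Fin.sum_univ_three f
  rw [this]
  simp only [Finset.filter_filter]

theorem pi_mem (a : Ex) (v : V) : S.sm a 0 v + S.eE v ∈ S.W a := by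
  refine ⟨fun d h1 h2 => by rw [smul_add, S.sm_shift _ _ _ h1, S.eE_shift _ h1, h2, add_zero],
    fun d h1 h2 => ?_⟩
  rw [smul_add, smul_add, S.sm_shift _ _ _ h1, S.sm_shift _ _ _ h1, S.eE_shift _ h1,
    S.eE_shift _ h1]
  have h4 := S.two (S.eE v)
  have h5 := S.eE_eq a v
  rcases z3 (chi a d) with h | h | h
  · exact absurd h h2
  · rw [h, show (1 : ZMod 3) + 0 = 1 by decide, show (1 : ZMod 3) + 1 = 2 by decide]
    calc _ = (S.sm a 0 v + S.sm a 1 v + S.sm a 2 v) + S.eE v + (S.eE v + S.eE v) := by abel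
      _ = 0 := by rw [← h5, h4, add_zero]
  · rw [h, show (2 : ZMod 3) + 0 = 2 by decide, show (2 : ZMod 3) + 2 = 1 by decide]
    calc _ = (S.sm a 0 v + S.sm a 1 v + S.sm a 2 v) + S.eE v + (S.eE v + S.eE v) := by abel
      _ = 0 := by rw [← h5, h4, add_zero]

include S in
theorem two_nsmul' (n : ℕ) (v : V) : (2 * n) • v = 0 := by
  rw [mul_comm, mul_nsmul', two_nsmul, S.two, nsmul_zero]

theorem decomp (v : V) : v = S.eE v + ∑ k, (S.sm (ch k) 0 v + S.eE v) := by
  have h1 : ∑ k, S.sm (ch k) 0 v = ∑ d ∈ Finset.univ.filter fun d : Ex => sg d = 0,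
      (Finset.univ.filter fun k => chi (ch k) d = 0).card • S.D d • v := by
    unfold sm
    simp only [← Finset.filter_filter]
    simp only [Finset.sum_filter (fun d => chi (ch _) d = 0)]
    rw [Finset.sum_comm]
    refine Finset.sum_congr rfl fun d _ => ?_
    rw [← Finset.sum_filter, Finset.sum_const]
  have h2 : ∀ d ∈ Finset.univ.filter fun d : Ex => sg d = 0,
      (Finset.univ.filter fun k => chi (ch k) d = 0).card • S.D d • v = S.D d • v +
        if d 0 = d 1 ∧ d 0 = d 2 ∧ d 0 = d 3 ∧ d 0 = d 4 ∧ d 0 = d 5 then S.D d • v else 0 := by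
    intro d hd
    have e : d = ![d 0, d 1, d 2, d 3, d 4, d 5] := by funext i; fin_cases i <;> rfl
    have := ch_par (d 0) (d 1) (d 2) (d 3) (d 4) (d 5) (e ▸ (Finset.mem_filter.1 hd).2)
    rw [← e] at this
    rw [this]
    split_ifs
    · rw [S.two]; exact S.two_nsmul' 20 _
    · rw [show 13 = 2 * 6 + 1 by rfl, succ_nsmul, S.two_nsmul', zero_add, add_zero]
  have h3 : ((Finset.univ.filter fun d : Ex => sg d = 0).filter
      fun d => d 0 = d 1 ∧ d 0 = d 2 ∧ d 0 = d 3 ∧ d 0 = d 4 ∧ d 0 = d 5) =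
      {0, fun _ => 1, (fun _ => 1) + fun _ => 1} := by
    ext d
    simp only [Finset.mem_filter, Finset.mem_univ, true_and, Finset.mem_insert,
      Finset.mem_singleton]
    constructor
    · rintro ⟨-, a1, a2, a3, a4, a5⟩
      have e : d = fun _ => d 0 := by funext i; fin_cases i <;> simp [← a1, ← a2, ← a3, ← a4, ← a5]
      rcases z3 (d 0) with h | h | h <;> rw [e, h]
      · exact Or.inl rfl
      · exact Or.inr (Or.inl rfl)
      · exact Or.inr (Or.inr (by decide))
    · rintro (rfl | rfl | rfl) <;> decide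
  rw [Finset.sum_add_distrib, h1, Finset.sum_congr rfl h2, Finset.sum_add_distrib,
    ← Finset.sum_filter, h3, Finset.sum_const, Finset.card_univ, Fintype.card_fin,
    Finset.sum_insert (by decide), Finset.sum_insert (by decide), Finset.sum_singleton,
    S.Dadd _ _ (by decide) (by decide), S.D1, S.D0, S.two_nsmul' 20]
  simp only [mul_one, one_smul]
  rw [S.two v]
  show v = S.eE v + (S.eE v + (v + 0) + 0)
  rw [add_zero, add_zero, ← add_assoc, S.two, zero_add]

theorem sm_self {a : Ex} {v : V} (hv : v ∈ S.W a) : S.sm a 0 v = v := by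
  unfold sm
  rw [Finset.sum_congr rfl fun d hd => hv.1 d (Finset.mem_filter.1 hd).2.1
    (Finset.mem_filter.1 hd).2.2, ← Finset.add_sum_erase _ _ (a := 0) (by
      simp [sg_zero, chi_zero]), add_eq_left]
  refine Finset.sum_involution (fun d _ => -d) (fun _ _ => S.two v) (fun d hd _ h => ?_)
    (fun d hd => ?_) (fun d _ => neg_neg d)
  · refine (Finset.mem_erase.1 hd).1 (funext fun i => ?_)
    have := congrFun h i
    revert this
    show -d i = d i → d i = 0
    generalize d i = c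
    revert c; decide
  · simp only [Finset.mem_erase, Finset.mem_filter, Finset.mem_univ, true_and] at hd ⊢
    simp [sg_neg, chi_neg, hd.1, hd.2.1, hd.2.2]

theorem sm_add (a : Ex) (c : ZMod 3) (v w : V) : S.sm a c (v + w) = S.sm a c v + S.sm a c w := by
  simp [sm, Finset.sum_add_distrib]

theorem sm_zero (a : Ex) (c : ZMod 3) : S.sm a c (0 : V) = 0 := by simp [sm]

theorem sm_D (a : Ex) (c : ZMod 3) (v : V) {d : Ex} (hd : sg d = 0) :
    S.sm a c (S.D d • v) = S.D d • S.sm a c v := by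
  unfold sm
  rw [Finset.smul_sum]
  refine Finset.sum_congr rfl fun x hx => ?_
  have := (Finset.mem_filter.1 hx).2.1
  rw [S.Dsm hd this, S.Dsm this hd, add_comm]

theorem sm_other {j k : Fin 40} (h : j ≠ k) {v : V} (hv : v ∈ S.W (ch k)) :
    S.sm (ch j) 0 v = 0 := by
  obtain ⟨t, h1, h2⟩ := ch_sep j k h
  have := congrArg (S.sm (ch j) 0) (hv.2 _ (ch_sg t) h2)
  rw [S.sm_add, S.sm_add, S.sm_D _ _ _ (ch_sg t), S.sm_D _ _ _ (ch_sg t), S.sm_D _ _ _ (ch_sg t),
    S.sm_shift _ _ _ (ch_sg t), S.sm_shift _ _ _ (ch_sg t), h1, add_zero, add_zero, S.two,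
    zero_add, S.sm_zero] at this
  exact this

theorem sum_inj {J : Type} [Fintype J] (ι : J → Fin 40) (hι : Function.Injective ι) :
    Function.Injective fun w : (∀ j, S.W (ch (ι j))) => ∑ j, (w j : V) := by
  classical
  have key : ∀ (w : ∀ j, S.W (ch (ι j))) j, S.sm (ch (ι j)) 0 (∑ j, (w j : V)) = w j := by
    intro w j
    have := map_sum (AddMonoidHom.mk' (S.sm (ch (ι j)) 0) (S.sm_add _ _)) (fun j => (w j : V))
      Finset.univ
    simp only [AddMonoidHom.mk'_apply] at this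
    rw [this, Finset.sum_eq_single j (fun b _ hb => S.sm_other (fun h => hb (hι h).symm) (w b).2)
      (by simp), S.sm_self (w j).2]
  intro w w' h
  funext j
  apply Subtype.ext
  rw [← key w j, ← key w' j]
  exact congrArg _ h

theorem pow_le {m : ℕ} (ι : Fin m → Fin 40) (hι : Function.Injective ι) {b : Fin 40}
    (hb : ∀ j, ba (ι j) = b) : Nat.card (S.W (ch b)) ^ m ≤ 2 ^ 20 := by
  haveI := S.fin
  have := Nat.card_le_card_of_injective _ (S.sum_inj ι hι)
  rwa [S.card, Nat.card_pi, Finset.prod_congr rfl fun j _ => (S.card_W _).trans (by rw [hb]),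
    Finset.prod_const, Finset.card_univ, Fintype.card_fin] at this

theorem four_le {k : Fin 40} {v : V} (hv : v ∈ S.W (ch k)) (h0 : v ≠ 0) :
    4 ≤ Nat.card (S.W (ch (ba k))) := by
  haveI := S.fin
  obtain ⟨t, ht⟩ := ch_nz k
  obtain ⟨f, hf, -⟩ := S.four (ch_sg t) ht hv h0
  have := Nat.card_le_card_of_injective f hf
  rwa [Nat.card_fin, S.card_W] at this

theorem card0 : Nat.card (S.W (ch 0)) = 4 := by
  have h1 := S.pow_le up (by decide) (b := 0) (by decide)
  have h2 := S.pow_le up1 (by decide) (b := 10) (by decide)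
  have h3 := S.pow_le up2 (by decide) (b := 25) (by decide)
  apply le_antisymm
  · by_contra! h
    have := (Nat.pow_le_pow_left h 10).trans h1
    norm_num at this
  · by_contra! h
    obtain ⟨d, v, hd, hv⟩ := S.nt
    apply hv
    have hz : ∀ k, S.sm (ch k) 0 v + S.eE v = 0 := by
      intro k
      by_contra h0
      have h4 := S.four_le (S.pi_mem _ v) h0
      have : ba k = 0 ∨ ba k = 10 ∨ ba k = 25 := by
        unfold ba; split_ifs <;> simp
      rcases this with e | e | e <;> rw [e] at h4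
      · omega
      · have := (Nat.pow_le_pow_left h4 15).trans h2
        norm_num at this
      · have := (Nat.pow_le_pow_left h4 15).trans h3
        norm_num at this
    have := S.decomp v
    simp only [hz, Finset.sum_const_zero, add_zero] at this
    rw [this, S.eE_shift _ hd]

theorem cardk (k : Fin 10) : Nat.card (S.W (ch (up k))) = 4 := by
  rw [S.card_W, ba_up, S.card0]

theorem mem_four (k : Fin 10) {e : Ex} (he : sg e = 0) (h : chi (ch (up k)) e ≠ 0) {v w : V}
    (hv : v ∈ S.W (ch (up k))) (h0 : v ≠ 0) (hw : w ∈ S.W (ch (up k))) :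
    w = 0 ∨ w = v ∨ w = S.D e • v ∨ w = v + S.D e • v := by
  haveI := S.fin
  obtain ⟨f, hf, hf'⟩ := S.four he h hv h0
  have hb := hf.bijective_of_nat_card_le (by rw [S.cardk, Nat.card_fin])
  obtain ⟨i, hi⟩ := hb.2 ⟨w, hw⟩
  have := hf' i
  rw [hi] at this
  fin_cases i <;> simp at this <;> simp [this]

theorem span (v : V) : ∃ w : Fin 10 → V, (∀ k, w k ∈ S.W (ch (up k))) ∧ v = ∑ k, w k := by
  haveI := S.fin
  have hb := (S.sum_inj up (by decide)).bijective_of_nat_card_le (by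
    rw [S.card, Nat.card_pi, Finset.prod_congr rfl fun j _ => S.cardk j]; simp)
  obtain ⟨w, hw⟩ := hb.2 v
  exact ⟨fun k => w k, fun k => (w k).2, hw.symm⟩

theorem PP {s : Perm (Fin 6)} (h : s * s = 1) (v : V) : S.P s • S.P s • v = v := by
  rw [← mul_smul, ← map_mul, h, map_one, one_smul]

theorem fix_swap {s : Perm (Fin 6)} (h : s * s = 1) (hs : ∀ i, ch 0 (s⁻¹ i) = ch 0 i)
    (hs' : chi (ch 0) (fun i => ek 0 (s⁻¹ i)) = chi (ch 0) (ek 0)) {v : V}
    (hv : v ∈ S.W (ch 0)) : S.P s • v = v := by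
  by_cases h0 : v = 0
  · rw [h0, smul_zero]
  have he := (ek_ok 0).1
  have he' : chi (ch 0) (ek 0) ≠ 0 := by rw [show ch 0 = ch (up 0) from rfl, (ek_ok 0).2]; decide
  have hm : S.P s • v ∈ S.W (ch 0) := by
    have := S.P_mem s hv
    rwa [funext hs] at this
  have cm : S.P s • S.D (ek 0) • v = S.D (ek 0) • S.P s • v := by
    rw [← mul_smul, S.DP _ _ he, mul_smul]
    exact S.D_eq (by rw [sg_perm]; exact he) he hs' hm
  have hp := S.PP h v
  have hq := S.D_sq he he' hv
  rcases S.mem_four 0 he he' hv h0 hm with e | e | e | e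
  · exact absurd ((smul_eq_zero_iff_eq _).1 e) h0
  · exact e
  · rw [e, cm, e, hq, add_eq_left] at hp
    exact absurd ((smul_eq_zero_iff_eq _).1 hp) h0
  · rw [e, smul_add, cm, e, smul_add, hq] at hp
    refine absurd ?_ (S.D_ne he he' hv h0)
    rw [← hp]
    nth_rewrite 1 [hp]
    calc _ = S.D (ek 0) • v + (v + v) + (S.D (ek 0) • v + S.D (ek 0) • v) := by
          rw [S.two, S.two, add_zero, add_zero]
      _ = _ := by abel

theorem exists_a0 : ∃ a : V, a ≠ 0 ∧ a ∈ S.W (ch 0) ∧ ∀ h ∈ st72, S.P h • a = a := by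
  haveI := S.fin
  have he := (ek_ok 0).1
  have he1 : chi (ch 0) (ek 0) = 1 := (ek_ok 0).2
  have he' : chi (ch 0) (ek 0) ≠ 0 := by rw [he1]; decide
  have hsig : ∀ v ∈ S.W (ch 0), S.P sig • v ∈ S.W (ch 0) := by
    intro v hv
    have h1 := S.P_mem sig hv
    have e : ∀ d, sg d = 0 → chi (fun i => ch 0 (sig⁻¹ i)) d = -chi (ch 0) d := by
      intro d hd
      have : ∀ i, ch 0 (sig⁻¹ i) = 1 - ch 0 i := by decide +kernel
      simp only [chi, this]
      unfold sg at hd
      linear_combination hd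
    exact ⟨fun d a b => h1.1 d a (by rw [e d a, b, neg_zero]),
      fun d a b => h1.2 d a (by rw [e d a]; exact neg_ne_zero.2 b)⟩
  obtain ⟨u, hu, hu'⟩ : ∃ u ∈ S.W (ch 0), S.P sig • u ≠ u := by
    by_contra! H
    obtain ⟨⟨v, hv⟩, h0⟩ : ∃ v : S.W (ch 0), v ≠ 0 := by
      haveI : Nontrivial (S.W (ch 0)) :=
        Finite.one_lt_card_iff_nontrivial.1 (by rw [S.card0]; norm_num)
      exact exists_ne 0
    have h0' : v ≠ 0 := fun h => h0 (Subtype.ext h)
    have h1 := H _ (S.D_mem he hv)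
    rw [← mul_smul, S.DP _ _ he, mul_smul, H v hv,
      S.D_eq (e := ek 0 + ek 0) (by rw [sg_perm]; exact he) (by rw [sg_add, he]; simp)
        (by decide +kernel) hv, ← S.Dsm he he, S.D_sq he he' hv, add_eq_right] at h1
    exact h0' h1
  have ha := (S.W _).add_mem hu (hsig u hu)
  refine ⟨u + S.P sig • u, fun h => hu' ?_, ha, ?_⟩
  · rwa [add_eq_zero_iff_eq_neg', S.neg] at h
  · have f0 : S.P sig • (u + S.P sig • u) = u + S.P sig • u := by
      rw [smul_add, S.PP (by decide +kernel), add_comm]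
    have f1 := S.fix_swap (s := swap 0 1) (by simp) (by decide +kernel) (by decide +kernel) ha
    have f2 := S.fix_swap (s := swap 1 2) (by simp) (by decide +kernel) (by decide +kernel) ha
    have f3 := S.fix_swap (s := swap 3 4) (by simp) (by decide +kernel) (by decide +kernel) ha
    have f4 := S.fix_swap (s := swap 4 5) (by simp) (by decide +kernel) (by decide +kernel) ha
    intro h hh
    simp only [st72, List.mem_flatMap, List.mem_cons, List.not_mem_nil, or_false] at hh
    obtain ⟨a, ha, b, hb, hh⟩ := hh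
    have ea : S.P a • (u + S.P sig • u) = u + S.P sig • u := by
      rcases ha with rfl | rfl | rfl | rfl | rfl | rfl <;>
        simp only [map_mul, map_one, mul_smul, one_smul, f1, f2]
    have eb : S.P b • (u + S.P sig • u) = u + S.P sig • u := by
      rcases hb with rfl | rfl | rfl | rfl | rfl | rfl <;>
        simp only [map_mul, map_one, mul_smul, one_smul, f3, f4]
    rcases hh with rfl | rfl <;> simp only [map_mul, mul_smul, ea, eb, f0]

end WS

/-- the vector with given coordinates -/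
def phiB (b : ℕ → V) (n : ℕ) : V := ∑ i ∈ Finset.range 20, if n.testBit i then b i else 0

theorem phiB_xor (two : ∀ v : V, v + v = 0) (b : ℕ → V) (m n : ℕ) :
    phiB b (m ^^^ n) = phiB b m + phiB b n := by
  unfold phiB
  rw [← Finset.sum_add_distrib]
  refine Finset.sum_congr rfl fun i _ => ?_
  rw [Nat.testBit_xor]
  cases m.testBit i <;> cases n.testBit i <;> simp [two]

theorem phiB_pow (b : ℕ → V) {i : ℕ} (hi : i < 20) : phiB b (2 ^ i) = b i := by
  unfold phiB
  rw [Finset.sum_eq_single i (fun j _ hj => by simp [Nat.testBit_two_pow, hj.symm])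
    (by simp [hi])]
  simp

theorem WS.coord (S : WS Q V) :
    ∃ C : Coord V, ∀ t : Fin 7, Act C (S.D (gd t) * S.P (gs t)) (tm t) := by
  haveI := S.fin
  obtain ⟨a, a0, ha, hst⟩ := S.exists_a0
  let b0 : Fin 10 → V := fun k => S.P (rp (up k)) • a
  have hb0 : ∀ k, b0 k ∈ S.W (ch (up k)) := fun k => by
    have := S.P_mem (rp (up k)) ha
    rwa [show (fun i => ch 0 ((rp (up k))⁻¹ i)) = ch (up k) from funext fun i => by
      rw [ch_rp (up k) i, ba_up]] at this
  have hb0' : ∀ k, b0 k ≠ 0 := fun k h => a0 ((smul_eq_zero_iff_eq _).1 h)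
  let b : ℕ → V := fun i => if h : i / 2 < 10 then
    (if i % 2 = 0 then b0 ⟨i / 2, h⟩ else S.D (ek ⟨i / 2, h⟩) • b0 ⟨i / 2, h⟩) else 0
  have e0 : ∀ k : Fin 10, phiB b (2 ^ (2 * k.1)) = b0 k := fun k => by
    rw [phiB_pow b (by omega)]
    simp [b, show 2 * k.1 / 2 = k.1 by omega]
  have e1 : ∀ k : Fin 10, phiB b (2 ^ (2 * k.1 + 1)) = S.D (ek k) • b0 k := fun k => by
    rw [phiB_pow b (by omega)]
    simp [b, show (2 * k.1 + 1) / 2 = k.1 by omega]
  have hx := phiB_xor S.two b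
  have hz : phiB b 0 = 0 := by simp [phiB]
  have hsurj : ∀ v, ∃ n, n < 2 ^ 20 ∧ phiB b n = v := by
    let R : AddSubgroup V :=
      { carrier := {v | ∃ n, n < 2 ^ 20 ∧ phiB b n = v}
        add_mem' := by
          rintro _ _ ⟨m, hm, rfl⟩ ⟨n, hn, rfl⟩
          exact ⟨m ^^^ n, Nat.xor_lt_two_pow hm hn, hx m n⟩
        zero_mem' := ⟨0, by norm_num, hz⟩
        neg_mem' := fun {x} h => by rw [S.neg]; exact h }
    intro v
    obtain ⟨w, hw, rfl⟩ := S.span v
    refine R.sum_mem fun k _ => ?_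
    have r0 : b0 k ∈ R := ⟨_, Nat.pow_lt_pow_right (by norm_num) (by omega), e0 k⟩
    have r1 : S.D (ek k) • b0 k ∈ R := ⟨_, Nat.pow_lt_pow_right (by norm_num) (by omega), e1 k⟩
    rcases S.mem_four k (ek_ok k).1 (by rw [(ek_ok k).2]; decide) (hb0 k) (hb0' k) (hw k) with
      e | e | e | e <;> rw [e]
    · exact R.zero_mem
    · exact r0
    · exact r1
    · exact R.add_mem r0 r1
  have hinj : ∀ n, n < 2 ^ 20 → phiB b n = 0 → n = 0 := by
    have hs : Function.Surjective fun n : Fin (2 ^ 20) => phiB b n := fun v => by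
      obtain ⟨n, hn, e⟩ := hsurj v
      exact ⟨⟨n, hn⟩, e⟩
    have hb := hs.bijective_of_nat_card_le (by rw [S.card, Nat.card_fin])
    intro n hn e
    have := hb.1 (a₁ := ⟨n, hn⟩) (a₂ := ⟨0, by norm_num⟩) (e.trans hz.symm)
    exact congrArg Fin.val this
  have ev : ∀ (k : Fin 10) (d : Ex), sg d = 0 →
      S.D d • b0 k = phiB b (cval (chi (ch (up k)) d) * 4 ^ k.1) := by
    intro k d hd
    have p0 : 1 * 4 ^ k.1 = 2 ^ (2 * k.1) := by rw [pow_mul]; norm_num
    have p1 : 2 * 4 ^ k.1 = 2 ^ (2 * k.1 + 1) := by rw [pow_succ, pow_mul]; ring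
    have p2 : 3 * 4 ^ k.1 = 2 ^ (2 * k.1) ^^^ 2 ^ (2 * k.1 + 1) := by revert k; decide +kernel
    obtain ⟨k1, k2⟩ := ek_ok k
    rcases z3 (chi (ch (up k)) d) with h | h | h <;> rw [h]
    · rw [show cval 0 = 1 from rfl, p0, e0, (hb0 k).1 d hd h]
    · rw [show cval 1 = 2 from rfl, p1, e1, S.D_eq hd k1 (h.trans k2.symm) (hb0 k)]
    · rw [show cval 2 = 3 from rfl, p2, hx, e0, e1,
        S.D_eq hd (e := ek k + ek k) (by rw [sg_add, k1]; simp)
          (by rw [h, chi_add, k2]; decide) (hb0 k), ← S.Dsm k1 k1,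
        S.D_sq k1 (by rw [k2]; decide) (hb0 k)]
  refine ⟨⟨phiB b, hx, hinj, hsurj⟩, fun t => Act.of_basis fun i hi => ?_⟩
  have hP : ∀ k, S.P (gs t) • b0 k = b0 (kt t k) := fun k => by
    have := hst _ (gen_st t k)
    rw [map_mul, map_mul, mul_smul, mul_smul, map_inv, inv_smul_eq_iff] at this
    exact this
  show _ • phiB b _ = phiB b _
  obtain ⟨k, hk⟩ : ∃ k : Fin 10, i = 2 * k.1 ∨ i = 2 * k.1 + 1 :=
    ⟨⟨i / 2, by omega⟩, by simp only; omega⟩
  rcases hk with rfl | rfl
  · rw [e0, mul_smul, hP, ev _ _ (gd_sg t), (gen_row t k).1]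
  · have hs : sg (fun i => ek k ((gs t)⁻¹ i)) = 0 := by rw [sg_perm]; exact (ek_ok k).1
    rw [e1, mul_smul, ← mul_smul (S.P _), S.DP _ _ (ek_ok k).1, mul_smul, hP,
      S.Dsm (gd_sg t) hs, ev _ _ (by rw [sg_add, gd_sg, hs]; simp), (gen_row t k).2]

end Cfsg.Agent.U6
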