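import Cfsg.Agent.U6.PtsC
import Cfsg.Agent.U6.Wt
import Cfsg.Agent.U6.Rdet
import Cfsg.Agent.U6.NF
import Cfsg.Agent.U6.Invol
import Cfsg.Agent.U6.Ord

/-! Identification of the module. -/

set_option autoImplicit false
set_option maxRecDepth 100000

namespace Cfsg.Agent.U6

open Cfsg.Agent.Comp Cfsg.Agent.Amalg Matrix Equiv

noncomputable section

theorem dig_lt (c i : ℕ) : dig c i < 4 := by
  show (c >>> (2 * i)) &&& 3 < 2 ^ 2
  exact Nat.and_lt_two_pow _ (by norm_num)

theorem mulT_lt (a b : ℕ) : mulT a b < 4 := by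
  show (2625168384 >>> _) &&& 3 < 2 ^ 2
  exact Nat.and_lt_two_pow _ (by norm_num)

theorem cjT_lt {a : ℕ} (h : a < 4) : cjT a < 4 := by interval_cases a <;> decide

theorem hfC_lt (c c' : ℕ) : hfC c c' < 4 := by
  unfold hfC
  have h : ∀ a b, mulT a b < 2 ^ 2 := mulT_lt
  exact Nat.xor_lt_two_pow (n := 2) (Nat.xor_lt_two_pow (Nat.xor_lt_two_pow (Nat.xor_lt_two_pow
    (Nat.xor_lt_two_pow (h _ _) (h _ _)) (h _ _)) (h _ _)) (h _ _)) (h _ _)

theorem dig_zero (i : ℕ) : dig 0 i = 0 := by
  show (0 >>> (2 * i)) &&& 3 = 0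
  simp

attribute [local irreducible] mul app tau tm rk meq pack row wM lt10 pt dig hfC gd gs

variable {F : Type*} [Field F] [Fintype F] [hF : Fact (Fintype.card F = 2 ^ 2)]

theorem one_one : (1 : F) + 1 = 0 := by
  haveI : CharP F 2 := charP_of_card_eq_prime_pow hF.out
  exact CharTwo.add_self_eq_zero 1

theorem cube {l : F} (h : l ≠ 0) : l * cj 2 l = 1 := by
  have := FiniteField.pow_card_sub_one_eq_one l h
  rw [hF.out] at this
  rw [cj_apply, ← this]; ring

/-- the field element with a given code -/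
def dec (ω : F) (c : ℕ) : F := (if c.testBit 0 then 1 else 0) + (if c.testBit 1 then ω else 0)

/-- the vector with a given code -/
def vec (ω : F) (c : ℕ) : Fin 6 → F := fun i => dec ω (dig c i)

section
omit [Fintype F] hF
theorem dec0 (ω : F) : dec ω 0 = 0 := by simp [dec]
theorem dec1 (ω : F) : dec ω 1 = 1 := by simp [dec, Nat.testBit]
theorem dec2 (ω : F) : dec ω 2 = ω := by simp [dec, Nat.testBit]
theorem dec3 (ω : F) : dec ω 3 = 1 + ω := by simp [dec, Nat.testBit]
end

theorem dec_xor (ω : F) (a b : ℕ) : dec ω (a ^^^ b) = dec ω a + dec ω b := by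
  have h := one_one (F := F)
  unfold dec
  rw [Nat.testBit_xor, Nat.testBit_xor]
  cases a.testBit 0 <;> cases b.testBit 0 <;> cases a.testBit 1 <;> cases b.testBit 1 <;>
    simp only [Bool.xor_false, Bool.xor_true, Bool.not_true, Bool.not_false, if_true,
      Bool.false_eq_true, if_false] <;>
    first | ring1 | linear_combination -h | linear_combination -ω * h
          | linear_combination -(1 + ω) * h

variable {ω : F}

theorem dec_mul (hω : ω * ω = ω + 1) {a b : ℕ} (ha : a < 4) (hb : b < 4) :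
    dec ω (mulT a b) = dec ω a * dec ω b := by
  have h := one_one (F := F)
  interval_cases a <;> interval_cases b
  all_goals first
    | (rw [show mulT _ _ = 0 by decide]; simp only [dec0, dec1, dec2, dec3]; ring1)
    | (rw [show mulT _ _ = 1 by decide]; simp only [dec0, dec1, dec2, dec3]
       first | ring1 | linear_combination -hω - ω * h)
    | (rw [show mulT _ _ = 2 by decide]; simp only [dec0, dec1, dec2, dec3]
       first | ring1 | linear_combination -hω - (ω + 1) * h)
    | (rw [show mulT _ _ = 3 by decide]; simp only [dec0, dec1, dec2, dec3]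
       first | ring1 | linear_combination -hω)

theorem cj_dec (hω : ω * ω = ω + 1) {a : ℕ} (ha : a < 4) : cj 2 (dec ω a) = dec ω (cjT a) := by
  have h := one_one (F := F)
  rw [cj_apply]
  interval_cases a
  · rw [show cjT 0 = 0 by decide, dec0]; ring
  · rw [show cjT 1 = 1 by decide, dec1]; ring
  · rw [show cjT 2 = 3 by decide, dec2, dec3]; linear_combination hω
  · rw [show cjT 3 = 2 by decide, dec2, dec3]; linear_combination hω + (ω + 1) * h

theorem dec_eq_zero (hω : ω * ω = ω + 1) {a : ℕ} (ha : a < 4) (h0 : dec ω a = 0) : a = 0 := by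
  have h := one_one (F := F)
  interval_cases a
  · rfl
  · rw [dec1] at h0; exact absurd h0 one_ne_zero
  · rw [dec2] at h0; rw [h0] at hω; simp at hω
  · rw [dec3] at h0
    exact absurd (by linear_combination -hω + (ω - 2) * h0 + h : (1 : F) = 0) one_ne_zero

theorem dec_surj (hω : ω * ω = ω + 1) (x : F) : ∃ a : Fin 4, dec ω a = x := by
  have hi : Function.Injective fun a : Fin 4 => dec ω a := fun a b e => by
    have e' : dec ω a = dec ω b := e
    have := dec_eq_zero hω (a := a.1 ^^^ b.1) (Nat.xor_lt_two_pow (n := 2) a.2 b.2) (by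
      rw [dec_xor, e', ← dec_xor, Nat.xor_self, dec0])
    exact Fin.ext (Nat.xor_eq_zero_iff.1 this)
  exact (hi.bijective_of_nat_card_le (by
    rw [Nat.card_eq_fintype_card, hF.out, Nat.card_fin]; norm_num)).2 x

theorem vec_surj (hω : ω * ω = ω + 1) (p : Fin 6 → F) : ∃ c, c < 4096 ∧ vec ω c = p := by
  choose a ha using fun i => dec_surj hω (p i)
  refine ⟨a 0 + 4 * a 1 + 16 * a 2 + 64 * a 3 + 256 * a 4 + 1024 * a 5, by omega, ?_⟩
  funext i
  unfold vec
  rw [dig_code, ← ha i]
  fin_cases i <;> rfl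

theorem hf_vec (hω : ω * ω = ω + 1) (c c' : ℕ) :
    hf 2 (vec ω c) (vec ω c') = dec ω (hfC c c') := by
  unfold hf hfC vec
  rw [Fin.sum_univ_six]
  simp only [dec_xor, dec_mul hω (dig_lt _ _) (cjT_lt (dig_lt _ _)), cj_dec hω (dig_lt _ _)]
  rfl

/-- the transvection -/
def tv (p : Fin 6 → F) : SU 6 F 2 := uS p 0 1

theorem sok {p : Fin 6 → F} (hp : hf 2 p p = 0) : SOK 2 p 0 1 :=
  sok_zero hp (by rw [map_one]; exact one_one)

theorem tv_smul {p : Fin 6 → F} (hp : hf 2 p p = 0) (v : Fin 6 → F) :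
    tv p • v = v + hf 2 v p • p := by
  unfold tv
  rw [uS_smul (sok hp)]
  funext i
  simp only [Pi.add_apply, Pi.sub_apply, Pi.smul_apply, smul_eq_mul, hf_zero_right, Pi.zero_apply]
  linear_combination -(hf 2 v p * p i) * one_one (F := F)

theorem tv_conj {p : Fin 6 → F} (hp : hf 2 p p = 0) (g : SU 6 F 2) :
    g * tv p * g⁻¹ = tv (g • p) := by
  unfold tv
  rw [uS_conj (sok hp), su_smul_def g 0, mulVec_zero]

theorem tv_scale {p : Fin 6 → F} (hp : hf 2 p p = 0) {l : F} (hl : l ≠ 0) :
    tv (l • p) = tv p := by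
  unfold tv
  rw [uS_scale (sok hp), cube hl, one_mul]

theorem tv_sq {p : Fin 6 → F} (hp : hf 2 p p = 0) : tv p * tv p = 1 := by
  unfold tv
  rw [uS_mul (sok hp) (sok hp), one_one, add_zero, hf_zero_left, add_zero, uS_zero hp]

theorem tv_zero : tv (0 : Fin 6 → F) = 1 :=
  su_ext_vec fun v => by rw [tv_smul (by simp)]; simp

theorem tv_comm {p q : Fin 6 → F} (hp : hf 2 p p = 0) (hq : hf 2 q q = 0) (h : hf 2 q p = 0) :
    tv p * tv q = tv q * tv p := by
  have := tv_conj hq (tv p)
  rw [tv_smul hp, h, zero_smul, add_zero] at this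
  exact mul_inv_eq_iff_eq_mul.1 this

theorem tv_braid {p q : Fin 6 → F} (hp : hf 2 p p = 0) (hq : hf 2 q q = 0) (h : hf 2 q p ≠ 0) :
    tv p * (tv q * tv p) = tv q * (tv p * tv q) := by
  have e1 := tv_conj hq (tv p)
  have e2 := tv_conj hp (tv q)
  rw [inv_eq_of_mul_eq_one_right (tv_sq hp), mul_assoc] at e1
  rw [inv_eq_of_mul_eq_one_right (tv_sq hq), mul_assoc] at e2
  rw [e1, e2, ← tv_scale (p := tv q • p) (by rw [hf_smul_smul, hp]) h, tv_smul hp, tv_smul hq,
    smul_add, smul_smul, ← cj_hf q p, cube h, one_smul, add_comm]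

theorem su_ext_single {g h : SU 6 F 2}
    (e : ∀ j i, (g • (Pi.single j 1 : Fin 6 → F)) i = (h • (Pi.single j 1 : Fin 6 → F)) i) :
    g = h := by
  apply su_ext
  ext i j
  simpa [su_smul_def] using e j i

/-- powers of the cube root of unity -/
def w3 (ω : F) (c : ZMod 3) : F := dec ω (cval c)

theorem w3_add (hω : ω * ω = ω + 1) (a b : ZMod 3) : w3 ω (a + b) = w3 ω a * w3 ω b := by
  unfold w3
  have h : ∀ a : ZMod 3, cval a < 4 := by decide
  rw [← dec_mul hω (h a) (h b)]
  congr 1
  revert a b; decide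

omit [Fintype F] hF in
theorem w3_zero : w3 ω 0 = 1 := dec1 ω

theorem w3_ne (hω : ω * ω = ω + 1) (a : ZMod 3) : w3 ω a ≠ 0 := fun h => by
  have := w3_add hω a (-a)
  rw [add_neg_cancel, w3_zero, h, zero_mul] at this
  exact one_ne_zero this

/-- diagonal elements -/
def dg (hω : ω * ω = ω + 1) (d : Ex) : SU 6 F 2 :=
  if h : sg d = 0 then mkSU (diagonal fun i => w3 ω (d i)) (by
    rw [det_diagonal, Fin.prod_univ_six]
    simp only [← w3_add hω]
    exact (congrArg (w3 ω) h).trans w3_zero) (by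
    rw [diagonal_transpose, diagonal_map (map_zero _), diagonal_mul_diagonal, ← diagonal_one]
    congr 1
    funext i
    exact cube (w3_ne hω _))
  else 1

theorem dg_smul (hω : ω * ω = ω + 1) {d : Ex} (h : sg d = 0) (v : Fin 6 → F) (i : Fin 6) :
    (dg hω d • v) i = w3 ω (d i) * v i := by
  rw [dg, dif_pos h, su_smul_def, suM_mkSU, mulVec_diagonal]

/-- permutation matrices -/
def pm0 (s : Perm (Fin 6)) : SU 6 F 2 :=
  mkSU (s⁻¹.permMatrix F) (by
    rw [det_permutation]
    rcases Int.units_eq_one_or (Perm.sign s⁻¹) with h | h <;> rw [h]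
    · simp
    · simp only [Units.val_neg, Units.val_one, Int.cast_neg, Int.cast_one]
      linear_combination -one_one (F := F)) (by
    have : (s⁻¹.permMatrix F).map (cj 2) = s⁻¹.permMatrix F := by
      ext i j
      simp only [map_apply, PEquiv.toMatrix_apply]
      split_ifs <;> simp
    rw [this, transpose_permMatrix, ← permMatrix_mul]
    simp)

theorem pm0_smul (s : Perm (Fin 6)) (v : Fin 6 → F) (i : Fin 6) :
    ((pm0 s : SU 6 F 2) • v) i = v (s⁻¹ i) := by
  rw [pm0, su_smul_def, suM_mkSU, permMatrix_mulVec]; rfl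

/-- permutation matrices as a homomorphism -/
def pm : Perm (Fin 6) →* SU 6 F 2 :=
  MonoidHom.mk' pm0 fun s t => su_ext_vec fun v => funext fun i => by
    rw [mul_smul, pm0_smul, pm0_smul, pm0_smul]; rfl

theorem pm_smul (s : Perm (Fin 6)) (v : Fin 6 → F) (i : Fin 6) :
    ((pm s : SU 6 F 2) • v) i = v (s⁻¹ i) := pm0_smul s v i

theorem pt_iso' (hω : ω * ω = ω + 1) {i : ℕ} (hi : i < 694) :
    hf 2 (vec ω (pt i)) (vec ω (pt i)) = 0 := by
  rw [hf_vec hω, Comp.beq_true.1 (allR_zero pt_iso i hi)]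
  exact dec0 ω

theorem tv_mono (hω : ω * ω = ω + 1) (t : Fin 7) :
    tv (vec ω (pt t)) = dg hω (gd t) * pm (gs t) := by
  refine su_ext_single fun j i => ?_
  rw [tv_smul (pt_iso' hω (by omega)), mul_smul, dg_smul hω (gd_sg t), pm_smul]
  have h := congrArg (dec ω) (mono_ok t i j)
  rw [dec_xor, dec_mul hω (cjT_lt (dig_lt _ _)) (dig_lt _ _), ← cj_dec hω (dig_lt _ _)] at h
  have e : hf 2 (Pi.single j 1) (vec ω (pt t)) = cj 2 (dec ω (dig (pt t) j)) := by
    unfold hf
    rw [Finset.sum_eq_single j (fun b _ hb => by simp [hb]) (by simp)]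
    simp [vec]
  rw [e]
  simp only [Pi.add_apply, Pi.smul_apply, smul_eq_mul, Pi.single_apply, vec, w3]
  split_ifs at h ⊢ <;> simpa [dec0, dec1] using h

theorem tv_index (hω : ω * ω = ω + 1) {p : Fin 6 → F} (h0 : p ≠ 0) (hp : hf 2 p p = 0) :
    ∃ i, i < 693 ∧ tv p = tv (vec ω (pt i)) := by
  obtain ⟨c, hc, rfl⟩ := vec_surj hω p
  have h := allR_zero ix_ok c hc
  unfold ixChk at h
  rw [bor_true, bor_true, Comp.beq_true] at h
  rcases h with h | h | h
  · refine absurd (funext fun i => ?_) h0
    rw [h]; unfold vec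
    rw [show dig (nat_lit 0) i = 0 from dig_zero i, dec0]; rfl
  · rw [hf_vec hω] at hp
    rw [dec_eq_zero hω (hfC_lt _ _) hp] at h
    cases h
  · simp only [band_true, ble_true] at h
    obtain ⟨h1, h2, h3⟩ := h
    generalize lk[nat_lit 4095, ixT, Nat.mul (nat_lit 12) c] = e at *
    generalize Nat.shiftRight e (nat_lit 2) = i at *
    have hi : i < 693 := by change i ≤ 692 at h1; omega
    refine ⟨i, hi, ?_⟩
    rw [← tv_scale (pt_iso' hω (by omega)) (l := dec ω (dig e 0)) fun h => by
      have := dec_eq_zero hω (dig_lt _ _) h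
      change 1 ≤ dig e 0 at h2; omega]
    congr 1
    funext t
    have := Comp.beq_true.1 (all1_spec h3 t (Nat.zero_le _) (by show t.1 < 0 + 6; omega))
    show dec ω (dig c t) = dec ω (dig e 0) * dec ω (dig (pt i) t)
    rw [this, dec_mul hω (dig_lt _ _) (dig_lt _ _)]

variable {Q : Type*} [Group Q] {V : Type*} [AddCommGroup V] [DistribMulAction Q V]

namespace Setup
variable (S : Setup F Q V)

theorem ker {z : SU 6 F 2} (h : S.π z = 1) : ∃ l : F, ∀ v : Fin 6 → F, z • v = l • v := by
  rcases su_normal (by norm_num) S.π.ker with h1 | h1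
  · exact h1 z h
  · obtain ⟨g, hg⟩ := S.nt
    obtain ⟨x, rfl⟩ := S.surj g
    exact absurd (show x ∈ S.π.ker from h1 ▸ Subgroup.mem_top x) hg

/-- the monomial group -/
def ws : WS Q V where
  two := S.two
  card := S.card
  D d := S.π (dg S.hom d)
  P := S.π.comp pm
  Dadd d d' h h' := by
    rw [← map_mul]
    congr 1
    refine su_ext_vec fun v => funext fun i => ?_
    rw [mul_smul, dg_smul _ h, dg_smul _ h', dg_smul _ (by rw [sg_add, h, h']; simp), Pi.add_apply,
      w3_add S.hom, mul_assoc]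
  D1 := S.scal _ ⟨w3 S.om 1, fun v => funext fun i => by rw [dg_smul _ (by decide)]; rfl⟩
  DP s d h := by
    rw [MonoidHom.comp_apply, ← map_mul, ← map_mul]
    congr 1
    refine su_ext_vec fun v => funext fun i => ?_
    rw [mul_smul, mul_smul, pm_smul, dg_smul _ h, dg_smul _ (by rw [sg_perm]; exact h), pm_smul]
  nt := by
    by_contra! H
    have hs : sg ![1, 2, 0, 0, 0, 0] = 0 := by decide
    obtain ⟨l, hl⟩ := S.ker (S.faith _ fun v => H _ v hs)
    have h1 := congrFun (hl fun _ => 1) 0
    have h2 := congrFun (hl fun _ => 1) 2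
    rw [dg_smul _ hs] at h1 h2
    have h3 : dec S.om 2 = dec S.om 1 := by
      have : w3 S.om 1 = w3 S.om 0 := by simpa using h1.trans h2.symm
      exact this
    have := dec_eq_zero S.hom (a := 2 ^^^ 1) (by decide) (by
      rw [dec_xor, h3, ← dec_xor, Nat.xor_self, dec0])
    exact absurd this (by decide)

/-- the transvections -/
def T (i : ℕ) : Q := S.π (tv (vec S.om (pt i)))

theorem base : ∃ C : Coord V, ∀ t, t < 8 → Act C (S.T t) (tau t) := by
  obtain ⟨C, hC⟩ := S.ws.coord
  have h7 : ∀ t, t < 7 → Act C (S.T t) (tm t) := fun t ht => by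
    have := hC ⟨t, ht⟩
    have e := tv_mono S.hom ⟨t, ht⟩
    unfold T
    rw [e, map_mul]
    exact this
  have i7 := pt_iso' S.hom (i := 7) (by norm_num)
  have h8 : Act C (S.T 7) (tm 7) := by
    refine rdet h7 (fun s hs => ?_) ?_ ?_
    · unfold T
      rw [← map_mul, ← map_mul, tv_comm i7 (pt_iso' S.hom (by simp at hs; omega))
        (by rw [hf_vec S.hom, rel_ok.1 s hs, dec0])]
    · unfold T
      rw [← map_mul, tv_sq i7, map_one]
    · unfold T
      simp only [← map_mul]
      rw [tv_braid i7 (pt_iso' S.hom (by norm_num)) (by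
        rw [hf_vec S.hom, rel_ok.2]
        exact fun h => absurd (dec_eq_zero S.hom (by norm_num) h) (by norm_num))]
  refine ⟨C.change bcB bcI bc1 bc2, fun t ht => Act.change bc1 bc2 ?_ (bc3 t ht)⟩
  by_cases e : t = 7
  · rw [e]; exact h8
  · exact h7 t (by omega)

theorem step {i : ℕ} (h8 : 8 ≤ i) (hi : i < 693) : ∃ s j, s < 8 ∧ j < i ∧
    S.T s * S.T j * (S.T s)⁻¹ = S.T i ∧ mul (tau s) (tau j) = mul (tau i) (tau s) := by
  have h := allR_spec par_ok i h8 (by show i < 8 + 685; omega)
  unfold parChk at h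
  simp only [band_true, ble_true, Comp.beq_true] at h
  obtain ⟨h1, h2, h3, h4⟩ := h
  generalize lk[nat_lit 1048575, parT, Nat.mul (nat_lit 20) i] = w at *
  generalize lt10 w 0 = s at *
  generalize lt10 w 1 = j at *
  have hs : s < 8 := by change s ≤ 7 at h1; omega
  have hj : j < i := h2
  refine ⟨s, j, hs, hj, ?_, h4⟩
  unfold T
  rw [← map_inv, ← map_mul, ← map_mul, tv_conj (pt_iso' S.hom (by omega)),
    tv_smul (pt_iso' S.hom (by omega)), hf_vec S.hom]
  congr 2
  funext t
  have := Comp.beq_true.1 (all1_spec h3 t (Nat.zero_le _) (by show t.1 < 0 + 6; omega))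
  show dec S.om _ + dec S.om _ * dec S.om _ = dec S.om (dig (pt i) t)
  rw [this, ← dec_mul S.hom (hfC_lt _ _) (dig_lt _ _), ← dec_xor]; rfl

theorem tv_T {p : Fin 6 → F} (h0 : p ≠ 0) (hp : hf 2 p p = 0) :
    ∃ i, i < 693 ∧ S.π (tv p) = S.T i := by
  obtain ⟨i, hi, e⟩ := tv_index S.hom h0 hp
  exact ⟨i, hi, congrArg S.π e⟩

include S in
theorem exists_model : Nonempty (Model Q V) := by
  obtain ⟨C, hC⟩ := S.base
  have act : ∀ i, i < 694 → Act C (S.T i) (tau i) := by
    intro i
    induction i using Nat.strong_induction_on with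
    | _ i ih =>
      intro hi
      by_cases h8 : i < 8
      · exact hC i h8
      by_cases h9 : i = 693
      · subst h9
        have : vec S.om (pt 693) = 0 := funext fun t => by
          unfold vec
          rw [tau693.2, dig_zero, dec0]; rfl
        unfold T
        rw [this, tv_zero, map_one, tau693.1]
        exact Act.one
      obtain ⟨s, j, hs, hj, e1, e2⟩ := S.step (i := i) (by omega) (by omega)
      rw [← e1]
      exact (hC s hs).conj (ih j hj (by omega)) e2
  have conj0 : ∀ i, i < 693 → ∃ g : Q, g * S.T i * g⁻¹ = S.T 0 := by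
    intro i
    induction i using Nat.strong_induction_on with
    | _ i ih =>
      intro hi
      by_cases h8 : i < 8
      · have h := all1_spec t1_ok i (Nat.zero_le _) (by show i < 0 + 8; omega)
        unfold t1Chk at h
        simp only [band_true, Comp.beq_true] at h
        obtain ⟨h1, h2, h3⟩ := h
        have a : ∀ a, okL a = true → Act C (S.T a) (tau a) := fun a h =>
          act a (by have := ble_true.1 h; change a ≤ 693 at this; omega)
        have := (((a _ h1).mul (a _ h2)).conj (act 0 (by norm_num)) h3).eq S.faith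
          (act i (by omega))
        generalize S.T _ * S.T _ = g at this
        exact ⟨g⁻¹, by rw [← this]; group⟩
      obtain ⟨s, j, hs, hj, e1, -⟩ := S.step (i := i) (by omega) hi
      obtain ⟨g, hg⟩ := ih j hj (by omega)
      exact ⟨g * (S.T s)⁻¹, by rw [← e1, ← hg]; group⟩
  have hne : ∀ i, i < 693 → vec S.om (pt i) ≠ 0 := by
    intro i hi h
    obtain ⟨g, hg⟩ := conj0 i hi
    have : S.T i = 1 := by unfold T; rw [h, tv_zero, map_one]
    rw [this] at hg
    exact (act 0 (by norm_num)).ne Act.one (by decide +kernel) (by simpa using hg.symm)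
  refine ⟨⟨C, S.T, act, S.faith, fun H hH => ?_, fun g i hi => ?_, conj0, fun u hu => ?_⟩⟩
  · have hall : ∀ i, i < 693 → S.T i ∈ H := by
      intro i
      induction i using Nat.strong_induction_on with
      | _ i ih =>
        intro hi
        by_cases h8 : i < 8
        · exact hH i h8
        obtain ⟨s, j, hs, hj, e1, -⟩ := S.step (i := i) (by omega) hi
        rw [← e1]
        exact H.mul_mem (H.mul_mem (hH s hs) (ih j hj (by omega))) (H.inv_mem (hH s hs))
    have := eq_top_of_transv (by norm_num) (H.comap S.π) fun p a hp ha => by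
      rw [Subgroup.mem_comap]
      have ha' : a = 0 ∨ a = 1 := by
        by_cases h0 : a = 0
        · exact Or.inl h0
        · right
          rw [cj_apply] at ha
          have : a * (1 + a) = 0 := by linear_combination ha
          have h1 := (mul_eq_zero.1 this).resolve_left h0
          linear_combination h1 - one_one (F := F)
      rcases ha' with rfl | rfl
      · rw [uS_zero hp, map_one]; exact H.one_mem
      · by_cases h0 : p = 0
        · subst h0
          have := tv_zero (F := F)
          unfold tv at this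
          rw [this, map_one]; exact H.one_mem
        · obtain ⟨i, hi, e⟩ := S.tv_T h0 hp
          exact (show S.π (tv p) ∈ H from e ▸ hall i hi)
    rw [eq_top_iff]
    intro g _
    obtain ⟨x, rfl⟩ := S.surj g
    exact (show x ∈ H.comap S.π from this ▸ Subgroup.mem_top x)
  · obtain ⟨x, rfl⟩ := S.surj g
    have hp := pt_iso' S.hom (i := i) (by omega)
    obtain ⟨j, hj, e⟩ := S.tv_T (p := x • vec S.om (pt i)) (fun h => hne i hi (by
      rw [← inv_smul_smul x (vec S.om (pt i)), h, su_smul_def, mulVec_zero]))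
      (by rw [hf_smul_smul, hp])
    refine ⟨j, hj, ?_⟩
    rw [← e, ← tv_conj hp, map_mul, map_mul, map_inv]; rfl
  · obtain ⟨x, rfl⟩ := S.surj u
    obtain ⟨l, hl⟩ := S.ker (z := x * x) (by rw [map_mul, hu])
    have hl0 : l ≠ 0 := by
      rintro rfl
      have := hf_smul_smul (x * x) (ue 0 : Fin 6 → F) (ue 0)
      rw [hl, hf_ue_self (by norm_num)] at this
      simp at this
    have h3 : x * x * x * (x * x * x) = 1 := su_ext_vec fun v => by
      rw [show x * x * x * (x * x * x) = x * x * (x * x * (x * x)) by group, mul_smul (x * x),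
        mul_smul (x * x), hl, hl, hl, smul_smul, smul_smul, one_smul]
      have := cube hl0
      rw [cj_apply] at this
      rw [show l * l * l = 1 by rw [← this]; ring, one_smul]
    have e3 : S.π x = S.π (x * x * x) := by rw [map_mul, map_mul, hu, one_mul]
    obtain ⟨L, h1, h2, h4, h5⟩ := invol _ h3
    rw [e3, h5]
    have cm : ∀ p ∈ L, ∀ q ∈ L, S.π (tv p) * S.π (tv q) = S.π (tv q) * S.π (tv p) :=
      fun p hp q hq => by
        rw [← map_mul, ← map_mul, tv_comm (h4 p hp p hp) (h4 q hq q hq) (h4 q hq p hp)]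
    rcases L with _ | ⟨p, _ | ⟨q, _ | ⟨r, _ | ⟨s, L⟩⟩⟩⟩
    · left; simp
    · obtain ⟨i, hi, e⟩ := S.tv_T (h2 p (by simp)) (h4 p (by simp) p (by simp))
      exact Or.inr (Or.inl ⟨i, hi, by simpa [tv] using e⟩)
    · obtain ⟨i, hi, e⟩ := S.tv_T (h2 p (by simp)) (h4 p (by simp) p (by simp))
      obtain ⟨j, hj, e'⟩ := S.tv_T (h2 q (by simp)) (h4 q (by simp) q (by simp))
      refine Or.inr (Or.inr (Or.inl ⟨i, hi, j, hj, ?_, ?_⟩))
      · rw [← e, ← e']; exact cm p (by simp) q (by simp)
      · rw [← e, ← e']; simp [tv]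
    · obtain ⟨i, hi, e⟩ := S.tv_T (h2 p (by simp)) (h4 p (by simp) p (by simp))
      obtain ⟨j, hj, e'⟩ := S.tv_T (h2 q (by simp)) (h4 q (by simp) q (by simp))
      obtain ⟨k, hk, e''⟩ := S.tv_T (h2 r (by simp)) (h4 r (by simp) r (by simp))
      refine Or.inr (Or.inr (Or.inr ⟨i, hi, j, hj, k, hk, ?_, ?_, ?_, ?_⟩))
      · rw [← e, ← e']; exact cm p (by simp) q (by simp)
      · rw [← e, ← e'']; exact cm p (by simp) r (by simp)
      · rw [← e', ← e'']; exact cm q (by simp) r (by simp)
      · rw [← e, ← e', ← e'']; simp [tv, mul_assoc]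
    · simp at h1; omega

include S in
theorem facts [Finite Q] : ModFacts Q V := by
  obtain ⟨M⟩ := S.exists_model
  refine M.facts (card_su6 (F := F) ▸ Subgroup.card_dvd_of_surjective S.π S.surj) fun z hz => ?_
  rcases su_normal (by norm_num) ((Subgroup.center Q).comap S.π) with h | h
  · obtain ⟨x, rfl⟩ := S.surj z
    exact S.scal x (h x (Subgroup.mem_center_iff.2 fun g => (hz g).symm))
  · obtain ⟨x, hx⟩ := S.surj (M.T 1)
    have : x ∈ (Subgroup.center Q).comap S.π := h ▸ Subgroup.mem_top x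
    rw [Subgroup.mem_comap, hx, Subgroup.mem_center_iff] at this
    exact absurd ncomm01 (M.not_ncomm (by norm_num) (by norm_num) (this _))

end Setup

end

end Cfsg.Agent.U6
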