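import Cfsg.Agent.U6.ClsC

/-! The classes of involutions and their fixed spaces. -/

set_option autoImplicit false
set_option maxRecDepth 100000

namespace Cfsg.Agent.U6

open Cfsg.Agent.Comp
open scoped Pointwise

noncomputable section

attribute [local irreducible] mul app tau rk meq pack row wM lt10 op

theorem om_lt (i : ℕ) : om i < 2 ^ 20 := by
  show (omT >>> (20 * i)) &&& 1048575 < 2 ^ 20
  exact Nat.and_lt_two_pow _ (by norm_num)

theorem om_mono {i j : ℕ} (hij : i < j) (hj : j < 891) : om i < om j := by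
  induction j with
  | zero => omega
  | succ j ih =>
    have h := (band_true.1 (allR_zero om_ok j (by show j < 891; omega))).1
    rw [bor_true, Comp.beq_true, blt_true] at h
    have h1 : om j < om (j + 1) := h.resolve_left (by show j ≠ 890; omega)
    by_cases e : i = j
    · subst e; exact h1
    · exact (ih (by omega) (by omega)).trans h1

theorem om_inj {i j : ℕ} (hi : i < 891) (hj : j < 891) (h : om i = om j) : i = j := by
  rcases lt_trichotomy i j with e | e | e
  · have := om_mono e hj; omega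
  · exact e
  · have := om_mono e hi; omega

variable {Q : Type*} [Group Q] {V : Type*} [AddCommGroup V] [DistribMulAction Q V]

namespace Model
variable (M : Model Q V)

theorem actL {a : ℕ} (h : okL a = true) : Act M.C (M.T a) (tau a) :=
  M.act a (by have := ble_true.1 h; change a ≤ 693 at this; omega)

theorem not_ncomm {i j : ℕ} (hi : i < 694) (hj : j < 694) (h : M.T i * M.T j = M.T j * M.T i) :
    ¬ ncomm (tau i) (tau j) = true := by
  intro hn
  have h1 := (M.act i hi).mul (M.act j hj)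
  have h2 := (M.act j hj).mul (M.act i hi)
  rw [← h] at h2
  unfold ncomm at hn
  rw [h1.meq h2] at hn
  cases hn

/-- the standard involutions -/
def u (t : ℕ) : Q := [1, M.T 0, M.T 0 * M.T 2, M.T 0 * M.T 2 * M.T 4].getD t 1

theorem actU {t : ℕ} (h : t ≤ 3) : Act M.C (M.u t) (uM t) := by
  have h0 := M.act 0 (by norm_num)
  have h2 := M.act 2 (by norm_num)
  have h4 := M.act 4 (by norm_num)
  interval_cases t
  · exact (Act.one : Act M.C (1 : Q) idM)
  · exact (h0 : Act M.C (M.T 0) (tau 0))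
  · exact (h0.mul h2 : Act M.C (M.T 0 * M.T 2) (mul (tau 0) (tau 2)))
  · exact ((h0.mul h2).mul h4 :
      Act M.C (M.T 0 * M.T 2 * M.T 4) (mul (mul (tau 0) (tau 2)) (tau 4)))

theorem T0_sq : M.T 0 * M.T 0 = 1 :=
  ((M.act 0 (by norm_num)).mul (M.act 0 (by norm_num))).eq M.faith
    (by rw [show mul (tau 0) (tau 0) = idM by decide +kernel]; exact Act.one)

theorem pair0 {j : ℕ} (hj : j < 693) (h0 : j ≠ 0) (hc : M.T 0 * M.T j = M.T j * M.T 0) :
    ∃ g : Q, g * M.T 0 * g⁻¹ = M.T 0 ∧ g * M.T j * g⁻¹ = M.T 2 := by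
  have h := allR_zero t2_ok j hj
  unfold t2Chk at h
  rw [bor_true, bor_true, Comp.beq_true] at h
  rcases h with h | h | h
  · exact absurd h h0
  · exact absurd h (M.not_ncomm (by norm_num) (by omega) hc)
  · simp only [band_true, Comp.beq_true] at h
    obtain ⟨h1, h2, h3, h4⟩ := h
    have hW := (M.actL h1).mul (M.actL h2)
    exact ⟨_, (hW.conj (M.act 0 (by norm_num)) h3).eq M.faith (M.act 0 (by norm_num)),
      (hW.conj (M.act j (by omega)) h4).eq M.faith (M.act 2 (by norm_num))⟩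

theorem triple0 {k : ℕ} (hk : k < 693) (h0 : M.T 0 * M.T k = M.T k * M.T 0)
    (h2 : M.T 2 * M.T k = M.T k * M.T 2) :
    ∃ t, 1 ≤ t ∧ t ≤ 3 ∧ ∃ g : Q, g * (M.T 0 * M.T 2 * M.T k) * g⁻¹ = M.u t := by
  have h := allR_zero t3_ok k hk
  unfold t3Chk at h
  rw [bor_true, bor_true] at h
  rcases h with h | h | h
  · exact absurd h (M.not_ncomm (by norm_num) (by omega) h0)
  · exact absurd h (M.not_ncomm (by norm_num) (by omega) h2)
  · simp only [band_true, Comp.beq_true, ble_true] at h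
    obtain ⟨h1, h2, h3, h4, h5, h6⟩ := h
    have hW := ((M.actL h1).mul (M.actL h2)).mul (M.actL h3)
    exact ⟨_, h4, h5, _, (hW.conj ((M.actU (t := 2) (by norm_num)).mul (M.act k (by omega))) h6).eq
      M.faith (M.actU h5)⟩

theorem cls (x : Q) (hx : x * x = 1) (h1 : x ≠ 1) :
    ∃ t, 1 ≤ t ∧ t ≤ 3 ∧ ∃ g : Q, g * x * g⁻¹ = M.u t := by
  have cm : ∀ g a b : Q, a * b = b * a → g * a * g⁻¹ * (g * b * g⁻¹) = g * b * g⁻¹ * (g * a * g⁻¹) :=
    fun g a b h => by
      calc _ = g * (a * b) * g⁻¹ := by group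
        _ = g * (b * a) * g⁻¹ := by rw [h]
        _ = _ := by group
  rcases M.inv x hx with h | ⟨i, hi, rfl⟩ | ⟨i, hi, j, hj, hc, rfl⟩ |
    ⟨i, hi, j, hj, k, hk, c1, c2, c3, rfl⟩
  · exact absurd h h1
  · exact ⟨1, le_rfl, by norm_num, M.conj0 i hi⟩
  · obtain ⟨g, hg⟩ := M.conj0 i hi
    obtain ⟨j', hj', e⟩ := M.cjT g j hj
    have h0 : j' ≠ 0 := by
      rintro rfl
      apply h1
      have : g * (M.T i * M.T j) * g⁻¹ = 1 := by
        rw [← M.T0_sq]; nth_rewrite 1 [← hg]; rw [← e]; group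
      simpa using this
    obtain ⟨g', e1, e2⟩ := M.pair0 hj' h0 (by rw [← hg, ← e]; exact cm _ _ _ hc)
    refine ⟨2, by norm_num, by norm_num, g' * g, ?_⟩
    show _ = M.T 0 * M.T 2
    rw [← e2, ← e1, ← e, ← hg]; group
  · obtain ⟨g, hg⟩ := M.conj0 i hi
    obtain ⟨j', hj', e⟩ := M.cjT g j hj
    by_cases h0 : j' = 0
    · subst h0
      have : g * (M.T i * M.T j) * g⁻¹ = 1 := by
        rw [← M.T0_sq]; nth_rewrite 1 [← hg]; rw [← e]; group
      have h2 : M.T i * M.T j = 1 := by simpa using this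
      rw [h2, one_mul]
      exact ⟨1, le_rfl, by norm_num, M.conj0 k hk⟩
    · obtain ⟨g', e1, e2⟩ := M.pair0 hj' h0 (by rw [← hg, ← e]; exact cm _ _ _ c1)
      obtain ⟨k', hk', e'⟩ := M.cjT (g' * g) k hk
      have f0 : (g' * g) * M.T i * (g' * g)⁻¹ = M.T 0 := by rw [← e1, ← hg]; group
      have f2 : (g' * g) * M.T j * (g' * g)⁻¹ = M.T 2 := by rw [← e2, ← e]; group
      obtain ⟨t, t1, t2, g'', e''⟩ := M.triple0 hk' (by rw [← f0, ← e']; exact cm _ _ _ c2)
        (by rw [← f2, ← e']; exact cm _ _ _ c3)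
      refine ⟨t, t1, t2, g'' * (g' * g), ?_⟩
      rw [← e'', ← f0, ← f2, ← e']; group

theorem fix_u2 : fixN V (M.u 2) ≤ 2 ^ 12 :=
  (M.actU (t := 2) (by norm_num)).fix_le (r := 8) (by decide +kernel) (by norm_num)

theorem fix_u3 : fixN V (M.u 3) ≤ 2 ^ 10 :=
  (M.actU (t := 3) (by norm_num)).fix_le (r := 10) (by decide +kernel) (by norm_num)

theorem isTr_conj (g : Q) {t : Q} (h : IsTr V t) : IsTr V (g * t * g⁻¹) := by
  refine ⟨?_, ?_, by rw [fixN_conj]; exact h.2.2⟩
  · calc _ = g * (t * t) * g⁻¹ := by group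
      _ = 1 := by rw [h.1]; group
  · intro e; exact h.2.1 (by simpa using e)

theorem isTr0 : IsTr V (M.T 0) := by
  refine ⟨M.T0_sq, (M.act 0 (by norm_num)).ne Act.one (by decide +kernel), ?_⟩
  refine le_trans ?_ ((M.act 0 (by norm_num)).fix_ge fixB (by decide +kernel))
  exact Nat.pow_le_pow_right (by norm_num) (by decide +kernel)

theorem isTr {i : ℕ} (hi : i < 693) : IsTr V (M.T i) := by
  obtain ⟨g, hg⟩ := M.conj0 i hi
  have := isTr_conj g⁻¹ M.isTr0
  rw [← hg] at this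
  simpa [mul_assoc] using this

theorem conj_of_isTr {t : Q} (h : IsTr V t) : ∃ g : Q, g * t * g⁻¹ = M.T 0 := by
  obtain ⟨k, k1, k2, g, hg⟩ := M.cls t h.1 h.2.1
  have h3 := h.2.2
  rw [← fixN_conj g, hg] at h3
  interval_cases k
  · exact ⟨g, hg⟩
  · have := h3.trans M.fix_u2; norm_num at this
  · have := h3.trans M.fix_u3; norm_num at this

include M in
theorem gen : Subgroup.closure {t : Q | IsTr V t} = ⊤ :=
  M.gen8 _ fun i hi => Subgroup.subset_closure (M.isTr (by omega))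

include M in
theorem pair (s t : Q) (hs : IsTr V s) (ht : IsTr V t) (hne : s ≠ t) :
    fixN V (s * t) ≤ 2 ^ 12 := by
  obtain ⟨g, hg⟩ := M.conj_of_isTr hs
  obtain ⟨g', hg'⟩ := M.conj_of_isTr ht
  obtain ⟨j, hj, e⟩ := M.cjT (g * g'⁻¹) 0 (by norm_num)
  have e1 : g * t * g⁻¹ = M.T j := by rw [← e, ← hg']; group
  have h0 : j ≠ 0 := by
    rintro rfl
    rw [← hg] at e1
    exact hne (by simpa using e1.symm)
  have h := allR_zero pr_ok j hj
  unfold prChk at h
  rw [bor_true, Comp.beq_true, ble_true] at h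
  have := ((M.act 0 (by norm_num)).mul (M.act j (by omega))).fix_le (h.resolve_left h0)
    (by decide)
  rw [← fixN_conj g, show g * (s * t) * g⁻¹ = M.T 0 * M.T j by rw [← hg, ← e1]; group]
  exact this

/-- the property of the good involutions -/
def Good (V : Type*) [AddCommGroup V] [DistribMulAction Q V] (u : Q) : Prop :=
  ∀ v : V, u • v = v → ∃ (w : V) (y : Q), orderOf y = 3 ∧ y * u = u * y ∧
    y • (v + (w + u • w)) = v + (w + u • w)

theorem Good.conj {u : Q} (g : Q) (h : Good V (g * u * g⁻¹)) : Good V u := by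
  intro v hv
  obtain ⟨w, y, h1, h2, h3⟩ := h (g • v) (by rw [mul_smul, inv_smul_smul, mul_smul, hv])
  refine ⟨g⁻¹ • w, g⁻¹ * y * g, ?_, ?_, ?_⟩
  · rw [← h1]
    exact (MulAut.conj g⁻¹).orderOf_eq y ▸ by simp
  · calc _ = g⁻¹ * (y * (g * u * g⁻¹)) * g := by group
      _ = _ := by rw [h2]; group
  · have e : g • (v + (g⁻¹ • w + u • g⁻¹ • w)) = g • v + (w + (g * u * g⁻¹) • w) := by
      rw [smul_add, smul_add, smul_inv_smul, mul_smul, mul_smul]
    rw [mul_smul, mul_smul, e, h3, ← e, inv_smul_smul]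

theorem order3 {y : Q} {Y : ℕ} (h : Act M.C y Y) (h3 : mul Y (mul Y Y) = idM)
    (h1 : meq Y idM = false) : orderOf y = 3 := by
  haveI : Fact (Nat.Prime 3) := ⟨by norm_num⟩
  refine orderOf_eq_prime ?_ (h.ne Act.one h1)
  rw [pow_three]
  exact (h.mul (h.mul h)).eq M.faith (by rw [h3]; exact Act.one)

theorem N_app {u : Q} {U : ℕ} (h : Act M.C u U) {n : ℕ} (hn : n < 2 ^ 20) :
    M.C.φ (app (Nat.xor U idM) n) = M.C.φ n + u • M.C.φ n := by
  rw [app_xorM, app_idM hn, M.C.xor, h n hn, add_comm]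

theorem N_zero {u : Q} {U : ℕ} (h : Act M.C u U) {n : ℕ} (hn : n < 2 ^ 20)
    (hv : u • M.C.φ n = M.C.φ n) : app (Nat.xor U idM) n = 0 :=
  M.C.inj0 _ (app_lt _ _) (by rw [M.N_app h hn, hv, M.C.two])

theorem good1 : Good V (M.u 1) := by
  intro v hv
  obtain ⟨n, hn, rfl⟩ := M.C.surj v
  have hU := M.act 0 (by norm_num)
  have key := lin_ext lin_id ((((lin_app c1B).comp (lin_app c1F)).xor
    ((lin_app (Nat.xor (tau 0) idM)).comp (lin_app c1L))).xor
    ((lin_app c1M).comp (lin_app (Nat.xor (tau 0) idM)))) (by decide +kernel) n hn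
  simp only [M.N_zero hU hn hv, app_zero, Nat.xor_zero] at key
  have hm : app c1F n < 2 ^ 8 := app_lt_pow (by decide +kernel) n
  have h := allR_zero u1_ok _ hm
  unfold u1Chk at h
  simp only [band_true, Comp.beq_true, Bool.not_eq_true'] at h
  obtain ⟨h1, h2, h3, h4, h5, h6⟩ := h
  generalize lk[nat_lit 1099511627775, u1T, Nat.mul (nat_lit 40) (app c1F n)] = w at *
  have hY := (M.actL h1).mul (M.actL h2)
  set w' := Nat.shiftRight w (nat_lit 20) % 2 ^ 20 with hw'
  have hw : w' < 2 ^ 20 := Nat.mod_lt _ (by norm_num)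
  rw [← app_mod (Nat.xor (tau 0) idM), ← hw'] at h6
  refine ⟨M.C.φ (app c1L n ^^^ w'), _, M.order3 hY h3 h4,
    (hY.mul hU).eq M.faith (by rw [h5]; exact hU.mul hY), ?_⟩
  have e : M.C.φ n + (M.C.φ (app c1L n ^^^ w') + M.u 1 • M.C.φ (app c1L n ^^^ w')) =
      M.C.φ (Nat.xor (app c1B (app c1F n)) (app (Nat.xor (tau 0) idM) w')) := by
    rw [show M.u 1 = M.T 0 from rfl, ← M.N_app hU (Nat.xor_lt_two_pow (app_lt _ _) hw), ← M.C.xor,
      app_xor]
    congr 1
    nth_rewrite 1 [key]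
    show _ = app c1B (app c1F n) ^^^ app (Nat.xor (tau 0) idM) w'
    rw [Nat.xor_assoc, ← Nat.xor_assoc (app _ (app c1L n)), Nat.xor_self, Nat.zero_xor]
  have hlt : Nat.xor (app c1B (app c1F n)) (app (Nat.xor (tau 0) idM) w') < 2 ^ 20 :=
    Nat.xor_lt_two_pow (app_lt _ _) (app_lt _ _)
  rw [e, hY _ hlt, h6]

theorem good3 : Good V (M.u 3) := by
  intro v hv
  obtain ⟨n, hn, rfl⟩ := M.C.surj v
  have hU := M.actU (t := 3) le_rfl
  have key := lin_ext lin_id (((lin_app (Nat.xor (uM 3) idM)).comp (lin_app c3L)).xor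
    ((lin_app c3M).comp (lin_app (Nat.xor (uM 3) idM)))) (by decide +kernel) n hn
  simp only [M.N_zero hU hn hv, app_zero, Nat.xor_zero] at key
  have hY : Act M.C _ (wM tau [8, 12, 10, 13]) :=
    Act.word (T := M.T) fun a ha => M.act a (by simp at ha; omega)
  refine ⟨M.C.φ (app c3L n), _, M.order3 hY (by decide +kernel) (by decide +kernel),
    (hY.mul hU).eq M.faith ?_, ?_⟩
  · rw [show mul (wM tau [8, 12, 10, 13]) (uM 3) = mul (uM 3) (wM tau [8, 12, 10, 13]) by
      decide +kernel]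
    exact hU.mul hY
  · rw [← M.N_app hU (app_lt _ _), ← key, M.C.two, smul_zero]

/-- the short orbit -/
def Om : Finset V := by
  classical exact (Finset.range 891).image fun i => M.C.φ (om i)

theorem mem_Om {v : V} : v ∈ M.Om ↔ ∃ i, i < 891 ∧ M.C.φ (om i) = v := by
  simp [Om]

theorem card_Om : M.Om.card = 891 := by
  classical
  unfold Om
  rw [Finset.card_image_of_injOn, Finset.card_range]
  intro i hi j hj h
  exact om_inj (by simpa using hi) (by simpa using hj) (M.C.inj (om_lt _) (om_lt _) h)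

theorem smul_Om (g : Q) : ∀ v ∈ M.Om, g • v ∈ M.Om := by
  classical
  have hT : ∀ s, s < 8 → ∀ v ∈ M.Om, M.T s • v ∈ M.Om := by
    intro s hs v hv
    obtain ⟨i, hi, rfl⟩ := M.mem_Om.1 hv
    have h := all1_spec (band_true.1 (allR_zero om_ok i hi)).2 s (Nat.zero_le _) (by
      show s < 0 + 8; omega)
    rw [band_true, ble_true, Comp.beq_true] at h
    exact M.mem_Om.2 ⟨op s i, by have := h.1; change op s i ≤ 890 at this; omega, by
      rw [M.act s (by omega) _ (om_lt _), h.2]⟩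
  have := M.gen8 (MulAction.stabilizer Q M.Om) fun s hs => by
    rw [MulAction.mem_stabilizer_finset']
    exact fun v hv => hT s hs v hv
  have hg : g ∈ MulAction.stabilizer Q M.Om := this ▸ Subgroup.mem_top g
  rw [MulAction.mem_stabilizer_finset'] at hg
  exact fun v hv => hg hv

theorem cnt_u2 : Nat.card {v : V // v ∈ M.Om ∧ M.u 2 • v = v} = 75 := by
  rw [← om_fix, ← Nat.card_eq_finsetCard]
  symm
  have hU := M.actU (t := 2) (by norm_num)
  refine Nat.card_congr (Equiv.ofBijective (fun i => ⟨M.C.φ (om i.1), ?_⟩) ⟨?_, ?_⟩)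
  · have := Finset.mem_filter.1 i.2
    exact ⟨M.mem_Om.2 ⟨i.1, by simpa using this.1, rfl⟩, by rw [hU _ (om_lt _), this.2]⟩
  · intro i j h
    exact Subtype.ext (om_inj (by simpa using (Finset.mem_filter.1 i.2).1)
      (by simpa using (Finset.mem_filter.1 j.2).1)
      (M.C.inj (om_lt _) (om_lt _) (congrArg Subtype.val h)))
  · rintro ⟨v, hv, hf⟩
    obtain ⟨i, hi, rfl⟩ := M.mem_Om.1 hv
    refine ⟨⟨i, Finset.mem_filter.2 ⟨by simpa using hi, ?_⟩⟩, rfl⟩
    rw [hU _ (om_lt _)] at hf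
    exact M.C.inj (app_lt _ _) (om_lt _) hf

theorem cnt_conj (g u : Q) : Nat.card {v : V // v ∈ M.Om ∧ (g * u * g⁻¹) • v = v} =
    Nat.card {v : V // v ∈ M.Om ∧ u • v = v} := by
  refine Nat.card_congr
    { toFun := fun v => ⟨g⁻¹ • v.1, M.smul_Om _ _ v.2.1, ?_⟩
      invFun := fun v => ⟨g • v.1, M.smul_Om _ _ v.2.1, ?_⟩
      left_inv := fun v => Subtype.ext (smul_inv_smul _ _)
      right_inv := fun v => Subtype.ext (inv_smul_smul _ _) }
  · have := v.2.2
    rw [mul_smul, mul_smul, smul_eq_iff_eq_inv_smul] at this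
    exact this
  · rw [mul_smul, mul_smul, inv_smul_smul, v.2.2]

include M in
theorem invFact : ∃ Ω : Finset V, Ω.card = 891 ∧ (∀ g : Q, ∀ v ∈ Ω, g • v ∈ Ω) ∧
    ∀ u : Q, u * u = 1 → u ≠ 1 →
      (∀ v : V, u • v = v → ∃ (w : V) (y : Q), orderOf y = 3 ∧ y * u = u * y ∧
        y • (v + (w + u • w)) = v + (w + u • w)) ∨
      (fixN V u ≤ 2 ^ 12 ∧ Nat.card {v : V // v ∈ Ω ∧ u • v = v} = 75) := by
  refine ⟨M.Om, M.card_Om, M.smul_Om, fun u h1 h2 => ?_⟩
  obtain ⟨t, t1, t2, g, hg⟩ := M.cls u h1 h2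
  interval_cases t
  · exact Or.inl (Good.conj g (hg ▸ M.good1))
  · exact Or.inr ⟨by rw [← fixN_conj g, hg]; exact M.fix_u2, by
      rw [← M.cnt_conj g, hg]; exact M.cnt_u2⟩
  · exact Or.inl (Good.conj g (hg ▸ M.good3))

end Model

end

end Cfsg.Agent.U6
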