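import Cfsg.Agent.U6.Data

/-! Computations for the classes of involutions. -/

set_option autoImplicit false
set_option maxRecDepth 100000

namespace Cfsg.Agent.U6

open Cfsg.Agent.Comp

noncomputable section

/-- The explicit model of the module. -/
structure Model (Q : Type*) [Group Q] (V : Type*) [AddCommGroup V] [DistribMulAction Q V] where
  C : Coord V
  T : ℕ → Q
  act : ∀ i, i < 694 → Act C (T i) (tau i)
  faith : ∀ g : Q, (∀ v : V, g • v = v) → g = 1
  gen8 : ∀ S : Subgroup Q, (∀ i, i < 8 → T i ∈ S) → S = ⊤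
  cjT : ∀ (g : Q) i, i < 693 → ∃ j, j < 693 ∧ g * T i * g⁻¹ = T j
  conj0 : ∀ i, i < 693 → ∃ g : Q, g * T i * g⁻¹ = T 0
  inv : ∀ u : Q, u * u = 1 → u = 1 ∨ (∃ i, i < 693 ∧ u = T i) ∨
    (∃ i, i < 693 ∧ ∃ j, j < 693 ∧ T i * T j = T j * T i ∧ u = T i * T j) ∨
    (∃ i, i < 693 ∧ ∃ j, j < 693 ∧ ∃ k, k < 693 ∧ T i * T j = T j * T i ∧ T i * T k = T k * T i ∧
      T j * T k = T k * T j ∧ u = T i * T j * T k)

/-- a letter -/
def lt10 (w t : ℕ) : ℕ := lk[nat_lit 1023, w, Nat.mul (nat_lit 10) t]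

/-- valid letter -/
def okL (a : ℕ) : Bool := Nat.ble a (nat_lit 693)

/-- lazy disjunction -/
def bor (a b : Bool) : Bool := @Bool.rec (fun _ => Bool) b true a

theorem bor_true {a b : Bool} : bor a b = true ↔ a = true ∨ b = true := by
  cases a <;> simp [bor]

/-- the matrices do not commute -/
def ncomm (M N : ℕ) : Bool := !meq (mul M N) (mul N M)

/-- standard involutions -/
def uM (t : ℕ) : ℕ := nth [idM, tau 0, mul (tau 0) (tau 2), mul (mul (tau 0) (tau 2)) (tau 4)] t

/-- check for pairs -/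
def t2Chk (j : ℕ) : Bool :=
  bor (Nat.beq j (nat_lit 0)) (bor (ncomm (tau 0) (tau j))
    ((fun w => (fun W => okL (lt10 w 0) &: okL (lt10 w 1) &:
      Nat.beq (mul W (tau 0)) (mul (tau 0) W) &: Nat.beq (mul W (tau j)) (mul (tau 2) W))
      (mul (tau (lt10 w 0)) (tau (lt10 w 1))))
      lk[nat_lit 1048575, t2T, Nat.mul (nat_lit 20) j]))

/-- check for triples -/
def t3Chk (k : ℕ) : Bool :=
  bor (ncomm (tau 0) (tau k)) (bor (ncomm (tau 2) (tau k))
    ((fun w => (fun W => okL (lt10 w 0) &: okL (lt10 w 1) &: okL (lt10 w 2) &: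
      Nat.ble (nat_lit 1) (lt10 w 3) &: Nat.ble (lt10 w 3) (nat_lit 3) &:
      Nat.beq (mul W (mul (uM 2) (tau k))) (mul (uM (lt10 w 3)) W))
      (mul (mul (tau (lt10 w 0)) (tau (lt10 w 1))) (tau (lt10 w 2))))
      lk[nat_lit 4294967295, t3T, Nat.mul (nat_lit 32) k]))

/-- check of the rank for pairs -/
def prChk (j : ℕ) : Bool :=
  bor (Nat.beq j (nat_lit 0)) (Nat.ble (nat_lit 8) (rk (Nat.xor (mul (tau 0) (tau j)) idM)))

theorem t2_ok : allR t2Chk (nat_lit 0) (nat_lit 693) = true := by decide +kernel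
theorem t3_ok : allR t3Chk (nat_lit 0) (nat_lit 693) = true := by decide +kernel
theorem pr_ok : allR prChk (nat_lit 0) (nat_lit 693) = true := by decide +kernel

/-- check of the elements of order three centralizing the first involution -/
def u1Chk (m : ℕ) : Bool :=
  (fun w => (fun Y => (fun v => okL (lt10 w 0) &: okL (lt10 w 1) &:
    Nat.beq (mul Y (mul Y Y)) idM &: (!meq Y idM) &: Nat.beq (mul Y (tau 0)) (mul (tau 0) Y) &:
    Nat.beq (app Y v) v)
    (Nat.xor (app c1B m) (app (Nat.xor (tau 0) idM) (Nat.shiftRight w (nat_lit 20)))))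
    (mul (tau (lt10 w 0)) (tau (lt10 w 1))))
    lk[nat_lit 1099511627775, u1T, Nat.mul (nat_lit 40) m]

theorem u1_ok : allR u1Chk (nat_lit 0) (nat_lit 256) = true := by decide +kernel

/-- the short orbit -/
def om (i : ℕ) : ℕ := lk[nat_lit 1048575, omT, Nat.mul (nat_lit 20) i]

/-- action on the short orbit -/
def op (s i : ℕ) : ℕ :=
  lk[nat_lit 1023, nth [opT0, opT1, opT2, opT3, opT4, opT5, opT6, opT7] s, Nat.mul (nat_lit 10) i]

/-- check of the short orbit -/
def omChk (i : ℕ) : Bool :=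
  bor (Nat.beq i (nat_lit 890)) (Nat.ble (Nat.succ (om i)) (om (Nat.succ i))) &:
  all1 (fun s => Nat.ble (op s i) (nat_lit 890) &: Nat.beq (app (tau s) (om i)) (om (op s i)))
    (nat_lit 0) (nat_lit 8)

theorem om_ok : allR omChk (nat_lit 0) (nat_lit 891) = true := by decide +kernel

theorem om_fix : ((Finset.range 891).filter fun i => app (uM 2) (om i) = om i).card = 75 := by
  decide +kernel

end

end Cfsg.Agent.U6
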