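import Cfsg.Agent.U6.Defs
import Cfsg.Agent.Comp.Loop

/-! Coded linear algebra over the field with two elements in dimension twenty. -/

set_option autoImplicit false

namespace Cfsg.Agent.U6

open Cfsg.Agent.Comp

noncomputable section

/-- the image of the `i`-th basis vector -/
def row (M i : ℕ) : ℕ := lk[nat_lit 1048575, M, Nat.mul (nat_lit 20) i]

/-- partial matrix-vector product -/
def appK (M n k : ℕ) : ℕ :=
  @Nat.rec (fun _ => ℕ) (nat_lit 0)
    (fun i acc => Nat.xor acc (Nat.mul lk[nat_lit 1, n, i] (row M i))) k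

/-- matrix-vector product -/
def app (M n : ℕ) : ℕ := appK M n (nat_lit 20)

/-- partial packing -/
def packK (f : ℕ → ℕ) (k : ℕ) : ℕ :=
  @Nat.rec (fun _ => ℕ) (nat_lit 0)
    (fun i acc => Nat.add acc (Nat.shiftLeft (f i) (Nat.mul (nat_lit 20) i))) k

/-- the matrix with given images -/
def pack (f : ℕ → ℕ) : ℕ := packK f (nat_lit 20)

/-- matrix product -/
def mul (M N : ℕ) : ℕ := pack fun i => app M (row N i)

/-- the identity matrix -/
def idM : ℕ := 1291125554700094681454528120150733151374004819596536383975174637135793331478721023188113305127324549703733114332013133825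

theorem row_lt (M i : ℕ) : row M i < 2 ^ 20 := by
  show (M >>> (20 * i)) &&& 1048575 < 2 ^ 20
  exact Nat.and_lt_two_pow _ (by norm_num)

theorem bit_eq (n i : ℕ) : lk[nat_lit 1, n, i] = (n.testBit i).toNat := by
  show (n >>> i) &&& 1 = _
  rw [Nat.and_one_is_mod, Nat.testBit_eq_decide_div_mod_eq, Nat.shiftRight_eq_div_pow]
  rcases Nat.mod_two_eq_zero_or_one (n / 2 ^ i) with h | h <;> simp [h]

theorem appK_succ (M n k : ℕ) :
    appK M n (k + 1) = appK M n k ^^^ (n.testBit k).toNat * row M k := by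
  rw [← bit_eq]; rfl

theorem appK_lt (M n k : ℕ) : appK M n k < 2 ^ 20 := by
  induction k with
  | zero => exact Nat.two_pow_pos _
  | succ k ih =>
    rw [appK_succ]
    refine Nat.xor_lt_two_pow ih ?_
    have := row_lt M k
    cases n.testBit k
    · simp
    · simpa using this

theorem app_lt (M n : ℕ) : app M n < 2 ^ 20 := appK_lt _ _ _

theorem appK_xor (M m n k : ℕ) : appK M (m ^^^ n) k = appK M m k ^^^ appK M n k := by
  induction k with
  | zero => exact (Nat.xor_self 0).symm
  | succ k ih =>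
    rw [appK_succ, appK_succ, appK_succ, ih, Nat.testBit_xor]
    cases m.testBit k <;> cases n.testBit k <;> simp
    · ac_rfl
    · ac_rfl
    · rw [Nat.xor_assoc, Nat.xor_comm (row M k), Nat.xor_assoc (appK M n k), Nat.xor_self,
        Nat.xor_zero]

theorem app_xor (M m n : ℕ) : app M (m ^^^ n) = app M m ^^^ app M n := appK_xor _ _ _ _

theorem appK_zero (M k : ℕ) : appK M 0 k = 0 := by
  induction k with
  | zero => rfl
  | succ k ih => rw [appK_succ, ih]; simp

theorem app_zero (M : ℕ) : app M 0 = 0 := appK_zero _ _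

theorem appK_pow (M i k : ℕ) : appK M (2 ^ i) k = if i < k then row M i else 0 := by
  induction k with
  | zero => rfl
  | succ k ih =>
    rw [appK_succ, ih, Nat.testBit_two_pow]
    by_cases h : i = k
    · subst h; simp
    · by_cases h' : i < k
      · simp [h, h', Nat.lt_succ_of_lt h']
      · have : ¬ i < k + 1 := by omega
        simp [h, h', this]

theorem app_pow (M : ℕ) {i : ℕ} (h : i < 20) : app M (2 ^ i) = row M i := by
  show appK M (2 ^ i) 20 = _
  rw [appK_pow, if_pos h]

theorem row_eq (M i : ℕ) : row M i = M / 2 ^ (20 * i) % 2 ^ 20 := by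
  show (M >>> (20 * i)) &&& (2 ^ 20 - 1) = _
  rw [Nat.and_two_pow_sub_one_eq_mod, Nat.shiftRight_eq_div_pow]

theorem packK_spec {f : ℕ → ℕ} (hf : ∀ i, f i < 2 ^ 20) (k : ℕ) :
    packK f k < 2 ^ (20 * k) ∧ ∀ i, i < k → row (packK f k) i = f i := by
  induction k with
  | zero => exact ⟨by show 0 < _; positivity, fun i h => absurd h (Nat.not_lt_zero _)⟩
  | succ k ih =>
    have e : packK f (k + 1) = packK f k + f k * 2 ^ (20 * k) := by
      rw [← Nat.shiftLeft_eq]; rfl
    rw [e]
    obtain ⟨h1, h2⟩ := ih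
    have h3 := hf k
    refine ⟨?_, fun i hi => ?_⟩
    · have : 2 ^ (20 * (k + 1)) = 2 ^ 20 * 2 ^ (20 * k) := by rw [← pow_add]; ring_nf
      rw [this]
      have : (f k + 1) * 2 ^ (20 * k) ≤ 2 ^ 20 * 2 ^ (20 * k) := Nat.mul_le_mul_right _ h3
      nlinarith
    · rw [row_eq]
      by_cases h : i = k
      · subst h
        rw [Nat.add_mul_div_right _ _ (by positivity), Nat.div_eq_of_lt h1, zero_add,
          Nat.mod_eq_of_lt h3]
      · have hik : i < k := by omega
        obtain ⟨j, rfl⟩ : ∃ j, k = i + 1 + j := ⟨k - i - 1, by omega⟩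
        have : f (i + 1 + j) * 2 ^ (20 * (i + 1 + j)) =
            (2 ^ 20 * (f (i + 1 + j) * 2 ^ (20 * j))) * 2 ^ (20 * i) := by
          rw [show 20 * (i + 1 + j) = 20 + 20 * j + 20 * i by ring, pow_add, pow_add]; ring
        rw [this, Nat.add_mul_div_right _ _ (by positivity), Nat.add_mul_mod_self_left,
          ← row_eq, h2 i hik]

theorem row_pack {f : ℕ → ℕ} (hf : ∀ i, f i < 2 ^ 20) {i : ℕ} (hi : i < 20) :
    row (pack f) i = f i := (packK_spec hf 20).2 i hi

theorem bit_ind {P : ℕ → Prop} (h0 : P 0) (hb : ∀ i, i < 20 → P (2 ^ i))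
    (hx : ∀ m n, m < 2 ^ 20 → n < 2 ^ 20 → P m → P n → P (m ^^^ n)) :
    ∀ n, n < 2 ^ 20 → P n := by
  have key : ∀ k, k ≤ 20 → ∀ n, n < 2 ^ k → P n := by
    intro k
    induction k with
    | zero => intro _ n hn; obtain rfl : n = 0 := by omega
              exact h0
    | succ k ih =>
      intro hk n hn
      by_cases h : n < 2 ^ k
      · exact ih (by omega) n h
      · have h1 : n ^^^ 2 ^ k < 2 ^ k := by
          apply Nat.lt_pow_two_of_testBit
          intro i hi
          rw [Nat.testBit_xor, Nat.testBit_two_pow]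
          by_cases e : k = i
          · subst e
            have : n.testBit k = true := Nat.testBit_of_two_pow_le_and_two_pow_add_one_gt
              (by omega) hn
            simp [this]
          · have : n.testBit i = false := Nat.testBit_lt_two_pow
              (lt_of_lt_of_le hn (Nat.pow_le_pow_right (by norm_num) (by omega)))
            simp [this, e]
        have h2 : 2 ^ k < 2 ^ 20 := Nat.pow_lt_pow_right (by norm_num) (by omega)
        have := hx _ _ (h1.trans h2) h2 (ih (by omega) _ h1) (hb k (by omega))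
        rwa [Nat.xor_assoc, Nat.xor_self, Nat.xor_zero] at this
  exact key 20 le_rfl

/-- `xor`-linear maps -/
def Lin (f : ℕ → ℕ) : Prop := ∀ m n, f (m ^^^ n) = f m ^^^ f n

theorem Lin.zero {f : ℕ → ℕ} (h : Lin f) : f 0 = 0 := by
  have := h 0 0
  rwa [Nat.xor_self, Nat.xor_self] at this

theorem lin_app (M : ℕ) : Lin (app M) := app_xor M

theorem lin_id : Lin fun n => n := fun _ _ => rfl

theorem Lin.comp {f g : ℕ → ℕ} (hf : Lin f) (hg : Lin g) : Lin fun n => f (g n) :=
  fun m n => by show f (g (m ^^^ n)) = _; rw [hg, hf]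

theorem Lin.xor {f g : ℕ → ℕ} (hf : Lin f) (hg : Lin g) : Lin fun n => f n ^^^ g n :=
  fun m n => by show f (m ^^^ n) ^^^ g (m ^^^ n) = (f m ^^^ g m) ^^^ (f n ^^^ g n); rw [hg, hf]; ac_rfl

theorem lin_ext {f g : ℕ → ℕ} (hf : Lin f) (hg : Lin g)
    (h : ∀ i, i < 20 → f (2 ^ i) = g (2 ^ i)) : ∀ n, n < 2 ^ 20 → f n = g n :=
  bit_ind (by rw [hf.zero, hg.zero]) h fun m n _ _ h1 h2 => by rw [hf, hg, h1, h2]

theorem app_mod (M n : ℕ) : app M (n % 2 ^ 20) = app M n := by
  have : ∀ k, k ≤ 20 → appK M (n % 2 ^ 20) k = appK M n k := by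
    intro k
    induction k with
    | zero => intro _; rfl
    | succ k ih =>
      intro hk
      rw [appK_succ, appK_succ, ih (by omega), Nat.testBit_mod_two_pow]
      simp [show k < 20 by omega]
  exact this 20 le_rfl

theorem app_mul (M N n : ℕ) : app (mul M N) n = app M (app N n) := by
  rw [← app_mod, ← app_mod N]
  refine lin_ext (lin_app _) ((lin_app M).comp (lin_app N)) (fun i hi => ?_) _
    (Nat.mod_lt _ (by norm_num))
  rw [app_pow _ hi, app_pow _ hi]
  exact row_pack (fun _ => app_lt _ _) hi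

theorem row_idM : ∀ i, i < 20 → row idM i = 2 ^ i := by decide +kernel

theorem app_idM {n : ℕ} (h : n < 2 ^ 20) : app idM n = n :=
  lin_ext (lin_app _) lin_id (fun i hi => by rw [app_pow _ hi, row_idM i hi]) n h

theorem row_xor (M N i : ℕ) : row (Nat.xor M N) i = row M i ^^^ row N i := by
  show ((M ^^^ N) >>> (20 * i)) &&& 1048575 = _
  rw [Nat.shiftRight_xor_distrib, Nat.and_xor_distrib_right]; rfl

theorem app_xorM (M N n : ℕ) : app (Nat.xor M N) n = app M n ^^^ app N n := by
  rw [← app_mod, ← app_mod M, ← app_mod N]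
  refine lin_ext (lin_app _) ((lin_app M).xor (lin_app N)) (fun i hi => ?_) _
    (Nat.mod_lt _ (by norm_num))
  rw [app_pow _ hi, app_pow _ hi, app_pow _ hi, row_xor]

theorem app_lt_pow {M c : ℕ} (h : ∀ i, i < 20 → row M i < 2 ^ c) (n : ℕ) : app M n < 2 ^ c := by
  rw [← app_mod]
  refine bit_ind (P := fun n => app M n < 2 ^ c) ?_ (fun i hi => ?_) (fun m n _ _ h1 h2 => ?_) _
    (Nat.mod_lt _ (by norm_num))
  · rw [app_zero]; positivity
  · rw [app_pow _ hi]; exact h i hi
  · rw [app_xor]; exact Nat.xor_lt_two_pow h1 h2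

/-- equality of the rows -/
def meq (M N : ℕ) : Bool := all1 (fun i => Nat.beq (row M i) (row N i)) (nat_lit 0) (nat_lit 20)

theorem all1_intro {f : ℕ → Bool} {lo n : ℕ} (h : ∀ i, lo ≤ i → i < lo + n → f i = true) :
    all1 f lo n = true := by
  induction n with
  | zero => rfl
  | succ n ih =>
    show (f (Nat.add lo n) &: all1 f lo n) = true
    rw [band_true]
    exact ⟨h _ (Nat.le_add_right _ _) (by show lo + n < _; omega),
      ih fun i h1 h2 => h i h1 (by omega)⟩

theorem meq_of {M N : ℕ} (h : ∀ i, i < 20 → row M i = row N i) : meq M N = true :=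
  all1_intro fun i _ hi => beq_true.2 (h i (by simpa using hi))

/-- coordinates -/
structure Coord (V : Type*) [AddCommGroup V] where
  φ : ℕ → V
  xor : ∀ m n, φ (m ^^^ n) = φ m + φ n
  inj0 : ∀ n, n < 2 ^ 20 → φ n = 0 → n = 0
  surj : ∀ v, ∃ n, n < 2 ^ 20 ∧ φ n = v

variable {Q : Type*} [Group Q] {V : Type*} [AddCommGroup V] [DistribMulAction Q V]

namespace Coord
variable (C : Coord V)
include C

theorem zero : C.φ 0 = 0 := by
  have := C.xor 0 0
  rw [Nat.xor_self] at this
  exact left_eq_add.1 this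

theorem two (v : V) : v + v = 0 := by
  obtain ⟨n, -, rfl⟩ := C.surj v
  rw [← C.xor, Nat.xor_self, C.zero]

theorem inj {m n : ℕ} (hm : m < 2 ^ 20) (hn : n < 2 ^ 20) (h : C.φ m = C.φ n) : m = n := by
  have := C.inj0 (m ^^^ n) (Nat.xor_lt_two_pow hm hn) (by rw [C.xor, h, C.two])
  exact Nat.xor_eq_zero_iff.1 this

/-- the code of a vector -/
def ψ (v : V) : ℕ := (C.surj v).choose

theorem ψ_lt (v : V) : C.ψ v < 2 ^ 20 := (C.surj v).choose_spec.1

theorem φ_ψ (v : V) : C.φ (C.ψ v) = v := (C.surj v).choose_spec.2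

theorem ψ_φ {n : ℕ} (h : n < 2 ^ 20) : C.ψ (C.φ n) = n := C.inj (C.ψ_lt _) h (C.φ_ψ _)

theorem ψ_add (v w : V) : C.ψ (v + w) = C.ψ v ^^^ C.ψ w :=
  C.inj (C.ψ_lt _) (Nat.xor_lt_two_pow (C.ψ_lt _) (C.ψ_lt _)) (by
    rw [C.xor, C.φ_ψ, C.φ_ψ, C.φ_ψ])

theorem neg (v : V) : -v = v := neg_eq_of_add_eq_zero_left (C.two v)

theorem card : Nat.card V = 2 ^ 20 := by
  have e : V ≃ Fin (2 ^ 20) :=
    { toFun := fun v => ⟨C.ψ v, C.ψ_lt v⟩
      invFun := fun n => C.φ n
      left_inv := fun v => C.φ_ψ v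
      right_inv := fun n => Fin.ext (C.ψ_φ n.2) }
  rw [Nat.card_congr e, Nat.card_fin]

theorem finite : Finite V := Nat.finite_of_card_ne_zero (by rw [C.card]; norm_num)

/-- change of basis -/
def change (B B' : ℕ) (h1 : mul B B' = idM) (h2 : mul B' B = idM) : Coord V where
  φ n := C.φ (app B n)
  xor m n := by rw [app_xor, C.xor]
  inj0 n hn h := by
    have := C.inj0 _ (app_lt _ _) h
    rw [← app_idM hn, ← h2, app_mul, this, app_zero]
  surj v := ⟨app B' (C.ψ v), app_lt _ _, by
    rw [← app_mul, h1, app_idM (C.ψ_lt _), C.φ_ψ]⟩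

end Coord

/-- `g` acts as the matrix `M` -/
def Act (C : Coord V) (g : Q) (M : ℕ) : Prop :=
  ∀ n, n < 2 ^ 20 → g • C.φ n = C.φ (app M n)

variable {C : Coord V}

theorem Act.of_basis {g : Q} {M : ℕ} (h : ∀ i, i < 20 → g • C.φ (2 ^ i) = C.φ (row M i)) :
    Act C g M :=
  bit_ind (by rw [app_zero, C.zero, smul_zero]) (fun i hi => by rw [app_pow _ hi, h i hi])
    fun m n _ _ h1 h2 => by rw [C.xor, smul_add, h1, h2, app_xor, C.xor]

theorem Act.mul {g h : Q} {M N : ℕ} (hg : Act C g M) (hh : Act C h N) :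
    Act C (g * h) (mul M N) := fun n hn => by
  rw [mul_smul, hh n hn, hg _ (app_lt _ _), app_mul]

theorem Act.one : Act C (1 : Q) idM := fun n hn => by rw [one_smul, app_idM hn]

theorem Act.smul_eq {g h : Q} {M : ℕ} (hg : Act C g M) (hh : Act C h M) (v : V) :
    g • v = h • v := by
  obtain ⟨n, hn, rfl⟩ := C.surj v
  rw [hg n hn, hh n hn]

theorem Act.eq (hf : ∀ g : Q, (∀ v : V, g • v = v) → g = 1) {g h : Q} {M : ℕ}
    (hg : Act C g M) (hh : Act C h M) : g = h := by
  have := hf (h⁻¹ * g) fun v => by rw [mul_smul, hg.smul_eq hh, inv_smul_smul]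
  exact (inv_mul_eq_one.1 this).symm

theorem Act.app_eq {g : Q} {M N : ℕ} (h1 : Act C g M) (h2 : Act C g N) {n : ℕ} (hn : n < 2 ^ 20) :
    app M n = app N n :=
  C.inj (app_lt _ _) (app_lt _ _) (by rw [← h1 n hn, h2 n hn])

theorem Act.meq {g : Q} {M N : ℕ} (h1 : Act C g M) (h2 : Act C g N) : meq M N = true :=
  meq_of fun i hi => by
    rw [← app_pow _ hi, ← app_pow _ hi]
    exact h1.app_eq h2 (Nat.pow_lt_pow_right (by norm_num) hi)

theorem Act.ne {g h : Q} {M N : ℕ} (h1 : Act C g M) (h2 : Act C h N) (hne : U6.meq M N = false) :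
    g ≠ h := by
  rintro rfl
  rw [h1.meq h2] at hne
  cases hne

theorem Act.change {g : Q} {M M' B B' : ℕ} (h1 : U6.mul B B' = idM) (h2 : U6.mul B' B = idM)
    (h : Act C g M) (e : U6.mul M B = U6.mul B M') : Act (C.change B B' h1 h2) g M' :=
  fun n _ => by
    show g • C.φ (app B n) = C.φ (app B (app M' n))
    rw [h _ (app_lt _ _), ← app_mul, e, app_mul]

/-- `g h g' ` acts as `N'` when `M N = N' M` -/
theorem Act.conj {g h : Q} {M N N' : ℕ} (hg : Act C g M) (hh : Act C h N)
    (e : U6.mul M N = U6.mul N' M) : Act C (g * h * g⁻¹) N' := by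
  intro n hn
  obtain ⟨m, hm, hm'⟩ := C.surj (g⁻¹ • C.φ n)
  have e1 : app M m = n := C.inj (app_lt _ _) hn (by rw [← hg m hm, hm', smul_inv_smul])
  rw [mul_smul, ← hm', (hg.mul hh) m hm, e, app_mul, e1]

/-- the matrix of a word -/
def wM (τ : ℕ → ℕ) (l : List ℕ) : ℕ :=
  @List.rec ℕ (fun _ => ℕ) idM (fun a _ ih => U6.mul (τ a) ih) l

theorem Act.word {T : ℕ → Q} {τ : ℕ → ℕ} {l : List ℕ} (h : ∀ a ∈ l, Act C (T a) (τ a)) :
    Act C (l.map T).prod (wM τ l) := by
  induction l with
  | nil => exact Act.one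
  | cons a l ih =>
    rw [List.map_cons, List.prod_cons]
    exact (h a List.mem_cons_self).mul (ih fun b hb => h b (List.mem_cons_of_mem _ hb))

/-- elimination step -/
def red (v x : ℕ) : ℕ := Nat.xor x (Nat.mul lk[nat_lit 1, x, Nat.log2 v] v)

/-- rank of the first `k` rows -/
def rkK (k : ℕ) : ℕ → ℕ :=
  @Nat.rec (fun _ => ℕ → ℕ) (fun _ => nat_lit 0)
    (fun j ih M => @Bool.rec (fun _ => ℕ)
      (Nat.succ (ih (pack fun i => red (row M j) (row M i)))) (ih M)
      (Nat.beq (row M j) (nat_lit 0))) k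

/-- rank -/
def rk (M : ℕ) : ℕ := rkK (nat_lit 20) M

theorem rkK_le (C : Coord V) (k : ℕ) (hk : k ≤ 20) : ∀ (M : ℕ) (S : AddSubgroup V),
    (∀ i, i < k → C.φ (row M i) ∈ S) → 2 ^ rkK k M ≤ Nat.card S := by
  haveI := C.finite
  induction k with
  | zero => intro M S _; exact Nat.card_pos
  | succ j ih =>
    intro M S hS
    have e : rkK (j + 1) M = @Bool.rec (fun _ => ℕ)
      (Nat.succ (rkK j (pack fun i => red (row M j) (row M i)))) (rkK j M)
      (Nat.beq (row M j) 0) := rfl
    rw [e]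
    cases hb : Nat.beq (row M j) 0 with
    | true => exact ih (by omega) M S fun i hi => hS i (by omega)
    | false =>
      have hv : row M j ≠ 0 := fun h => by rw [beq_true.2 h] at hb; cases hb
      set v := row M j with hvd
      have hvb : v.testBit v.log2 = true := Nat.testBit_log2 hv
      let S' : AddSubgroup V :=
        { carrier := {s | s ∈ S ∧ (C.ψ s).testBit v.log2 = false}
          add_mem' := fun {a b} ha hb => ⟨S.add_mem ha.1 hb.1, by
            rw [C.ψ_add, Nat.testBit_xor, ha.2, hb.2]; rfl⟩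
          zero_mem' := ⟨S.zero_mem, by rw [← C.zero, C.ψ_φ (by norm_num)]; simp⟩
          neg_mem' := fun {a} ha => by rw [C.neg]; exact ha }
      have hred : ∀ x, red v x = x ^^^ (x.testBit v.log2).toNat * v := fun x => by
        rw [← bit_eq]; rfl
      have hlt : ∀ i, red v (row M i) < 2 ^ 20 := fun i => by
        rw [hred]
        refine Nat.xor_lt_two_pow (row_lt _ _) ?_
        have := row_lt M j
        cases (row M i).testBit v.log2
        · simp
        · simpa using this
      have h1 := ih (by omega) (pack fun i => red v (row M i)) S' fun i hi => by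
        rw [row_pack hlt (by omega)]
        refine ⟨?_, ?_⟩
        · rw [hred, C.xor]
          refine S.add_mem (hS i (by omega)) ?_
          cases (row M i).testBit v.log2
          · simp [C.zero]
          · simpa using hS j (by omega)
        · rw [C.ψ_φ (hlt i), hred, Nat.testBit_xor]
          cases h : (row M i).testBit v.log2
          · simp
          · simp [hvb]
      have hle : S' ≤ S := fun s hs => hs.1
      obtain ⟨m, hm⟩ := AddSubgroup.card_dvd_of_le hle
      have hne : Nat.card S' ≠ Nat.card S := fun h => by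
        have := AddSubgroup.eq_of_le_of_card_ge hle h.ge
        have h3 : C.φ v ∈ S' := this ▸ hS j (by omega)
        have h4 := h3.2
        rw [C.ψ_φ (row_lt _ _), hvb] at h4
        cases h4
      have hpos : 0 < Nat.card S := Nat.card_pos
      have hm2 : 2 ≤ m := by
        rcases m with _ | _ | m
        · omega
        · omega
        · omega
      show 2 ^ (rkK j _ + 1) ≤ _
      rw [pow_succ, hm]
      exact Nat.mul_le_mul h1 hm2

theorem rk_le (C : Coord V) (M : ℕ) (S : AddSubgroup V) (h : ∀ i, i < 20 → C.φ (row M i) ∈ S) :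
    2 ^ rk M ≤ Nat.card S := rkK_le C 20 le_rfl M S h

/-- the fixed vectors as a subgroup -/
def fixS (V : Type*) [AddCommGroup V] [DistribMulAction Q V] (g : Q) : AddSubgroup V where
  carrier := MulAction.fixedBy V g
  add_mem' {a b} ha hb := by
    rw [MulAction.mem_fixedBy] at *
    rw [smul_add, ha, hb]
  zero_mem' := smul_zero g
  neg_mem' {a} ha := by
    rw [MulAction.mem_fixedBy] at *
    rw [smul_neg, ha]

theorem Act.fix_ge {g : Q} {M : ℕ} (h : Act C g M) (B : ℕ) (hB : U6.mul M B = B) :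
    2 ^ rk B ≤ fixN V g :=
  rk_le C B (fixS V g) fun i hi => by
    show g • _ = _
    rw [h _ (row_lt _ _), ← app_pow B hi, ← app_mul, hB]

theorem Act.fix_le {g : Q} {M : ℕ} (h : Act C g M) {r : ℕ} (hr : r ≤ rk (Nat.xor M idM))
    (hr' : r ≤ 20) : fixN V g ≤ 2 ^ (20 - r) := by
  haveI := C.finite
  let f : V →+ V := (DistribSMul.toAddMonoidHom V g) + AddMonoidHom.id V
  have hf : ∀ v, f v = g • v + v := fun v => rfl
  have h1 := rk_le C (Nat.xor M idM) f.range fun i hi =>
    ⟨C.φ (2 ^ i), by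
      rw [hf, h _ (Nat.pow_lt_pow_right (by norm_num) hi), row_xor, C.xor, app_pow _ hi,
        row_idM i hi]⟩
  have h2 : Nat.card f.ker * Nat.card f.range = 2 ^ 20 := by
    rw [← C.card, ← AddSubgroup.index_ker, AddSubgroup.card_mul_index]
  have h3 : fixN V g = Nat.card f.ker := by
    refine Nat.card_congr (Equiv.subtypeEquivRight fun v => ?_)
    rw [MulAction.mem_fixedBy, AddMonoidHom.mem_ker, hf, add_eq_zero_iff_eq_neg, C.neg]
  have h4 : 2 ^ r ≤ Nat.card f.range := (Nat.pow_le_pow_right (by norm_num) hr).trans h1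
  rw [h3]
  have h5 : Nat.card f.ker * 2 ^ r ≤ 2 ^ (20 - r) * 2 ^ r := by
    rw [← pow_add, Nat.sub_add_cancel hr', ← h2]
    exact Nat.mul_le_mul_left _ h4
  exact Nat.le_of_mul_le_mul_right h5 (by positivity)

theorem fixN_conj (g h : Q) : fixN V (g * h * g⁻¹) = fixN V h := by
  refine Nat.card_congr
    { toFun := fun v => ⟨g⁻¹ • v.1, ?_⟩
      invFun := fun v => ⟨g • v.1, ?_⟩
      left_inv := fun v => Subtype.ext (smul_inv_smul _ _)
      right_inv := fun v => Subtype.ext (inv_smul_smul _ _) }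
  · have := v.2
    rw [MulAction.mem_fixedBy] at *
    rw [mul_smul, mul_smul, smul_eq_iff_eq_inv_smul] at this
    exact this
  · have := v.2
    rw [MulAction.mem_fixedBy] at *
    rw [mul_smul, mul_smul, inv_smul_smul, this]

end

end Cfsg.Agent.U6
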