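import Mathlib
import Cfsg.Agent.Amalg.USimple
import Cfsg.Agent.Amalg.UFrame

/-! Interfaces for the study of `2^20 : U₆(2)`. -/

set_option autoImplicit false

namespace Cfsg.Agent.U6

open Cfsg.Agent.Amalg

/-- `x, y` generate an elementary abelian group of order nine. -/
structure Nine {Q : Type*} [Group Q] (x y : Q) : Prop where
  x3 : x ^ 3 = 1
  y3 : y ^ 3 = 1
  comm : x * y = y * x
  ind : ∀ i j : ℕ, i < 3 → j < 3 → x ^ i * y ^ j = 1 → i = 0 ∧ j = 0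

/-- The number of vectors fixed by `g`. -/
noncomputable def fixN (V : Type*) [AddCommGroup V] {Q : Type*} [Group Q] [DistribMulAction Q V]
    (g : Q) : ℕ := Nat.card (MulAction.fixedBy V g)

/-- The class of transvections, described by the action on the module. -/
def IsTr (V : Type*) [AddCommGroup V] {Q : Type*} [Group Q] [DistribMulAction Q V] (t : Q) : Prop :=
  t * t = 1 ∧ t ≠ 1 ∧ 2 ^ 13 ≤ fixN V t

/-- A faithful module of order `2^20` for a quotient `Q ≠ 1` of `SU₆(2)` by the scalars. -/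
structure Setup (F : Type*) [Field F] [Fintype F] [Fact (Fintype.card F = 2 ^ 2)]
    (Q : Type*) [Group Q] (V : Type*) [AddCommGroup V] [DistribMulAction Q V] where
  π : SU 6 F 2 →* Q
  surj : Function.Surjective π
  scal : ∀ z : SU 6 F 2, (∃ l : F, ∀ v : Fin 6 → F, z • v = l • v) → π z = 1
  faith : ∀ g : Q, (∀ v : V, g • v = v) → g = 1
  two : ∀ v : V, v + v = 0
  card : Nat.card V = 2 ^ 20
  nt : ∃ g : Q, g ≠ 1
  om : F
  hom : om * om = om + 1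

/-- The facts on the module used by the group theoretic argument. -/
structure ModFacts (Q : Type*) [Group Q] (V : Type*) [AddCommGroup V] [DistribMulAction Q V] :
    Prop where
  nine : ∀ v : V, ∃ x y : Q, Nine x y ∧ x • v = v ∧ y • v = v
  hyp : ∀ D : AddSubgroup V, D.index = 2 →
    ∃ x y : Q, Nine x y ∧ (∀ v ∈ D, x • v ∈ D) ∧ ∀ v ∈ D, y • v ∈ D
  gen : Subgroup.closure {t : Q | IsTr V t} = ⊤
  pair : ∀ s t : Q, IsTr V s → IsTr V t → s ≠ t → fixN V (s * t) ≤ 2 ^ 12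
  inv : ∃ Ω : Finset V, Ω.card = 891 ∧ (∀ g : Q, ∀ v ∈ Ω, g • v ∈ Ω) ∧
    ∀ u : Q, u * u = 1 → u ≠ 1 →
      (∀ v : V, u • v = v → ∃ (w : V) (y : Q), orderOf y = 3 ∧ y * u = u * y ∧
        y • (v + (w + u • w)) = v + (w + u • w)) ∨
      (fixN V u ≤ 2 ^ 12 ∧ Nat.card {v : V // v ∈ Ω ∧ u • v = v} = 75)
  ord : Nat.card Q ∣ 2 ^ 15 * 3 ^ 7 * 5 * 7 * 11
  five : ∀ g : Q, orderOf g = 5 → fixN V g ≤ 2 ^ 15
  seven : ∀ g : Q, orderOf g = 7 → fixN V g ≤ 2 ^ 13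
  cent : ∀ z : Q, (∀ g : Q, z * g = g * z) → z = 1

/-- `H` is strongly 3-embedded or everything. -/
def SE {X : Type*} [Group X] (H : Subgroup X) : Prop :=
  ∀ g x : X, orderOf x = 3 → x ∈ H → g⁻¹ * x * g ∈ H → g ∈ H

/-- `|C_A(h)|`. -/
noncomputable def cN {X : Type*} [Group X] (A : Subgroup X) (h : X) : ℕ :=
  Nat.card ↥(A ⊓ Subgroup.centralizer {h})

/-- The facts on `H = N(A)` used by the group theoretic argument (`H0 = A K₀`). -/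
structure Hyp {X : Type*} [Group X] (A H H0 : Subgroup X) : Prop where
  norm : H = Subgroup.normalizer (A : Set X)
  card : Nat.card A = 2 ^ 20
  sq : ∀ a ∈ A, a * a = 1
  le0 : A ≤ H0
  le1 : H0 ≤ H
  idx : ∀ x ∈ H, ∀ y ∈ H, x ∉ H0 → y ∉ H0 → x * y ∈ H0
  three : ∀ a ∈ A, ∃ y ∈ H, orderOf y = 3 ∧ y * a = a * y
  hyp : ∀ D : Subgroup X, D ≤ A → Nat.card A = 2 * Nat.card D →
    ∃ x ∈ H, ∃ y ∈ H, Nine x y ∧ (∀ d ∈ D, x * d * x⁻¹ ∈ D) ∧ ∀ d ∈ D, y * d * y⁻¹ ∈ D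
  codim : ∀ h ∈ H, h ∉ A → cN A h ≤ 2 ^ 16
  bad : ∃ Ω : Finset X, Ω.card = 891 ∧ (∀ a ∈ Ω, a ∈ A) ∧
    (∀ h ∈ H0, ∀ a ∈ Ω, h * a * h⁻¹ ∈ Ω) ∧
    ∀ h ∈ H0, h ∉ A → h * h = 1 → (∃ y ∈ H, orderOf y = 3 ∧ y * h = h * y) ∨
      (cN A h ≤ 2 ^ 12 ∧ Nat.card {a : X // a ∈ Ω ∧ h * a * h⁻¹ = a} = 75)
  ord : Nat.card H ∣ 2 ^ 36 * 3 ^ 7 * 5 * 7 * 11
  five : ∀ h ∈ H, orderOf h = 5 → cN A h ≤ 2 ^ 15
  seven : ∀ h ∈ H, orderOf h = 7 → cN A h ≤ 2 ^ 13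

/-- The conjugate `g A g⁻¹`. -/
abbrev cj' {X : Type*} [Group X] (A : Subgroup X) (g : X) : Subgroup X :=
  A.map (MulAut.conj g).toMonoidHom

/-- `g ∉ H` makes `|A ∩ g A g⁻¹|` maximal. -/
def MaxInt {X : Type*} [Group X] (A H : Subgroup X) (g : X) : Prop :=
  g ∉ H ∧ ∀ g' : X, g' ∉ H → Nat.card ↥(A ⊓ cj' A g') ≤ Nat.card ↥(A ⊓ cj' A g)

end Cfsg.Agent.U6
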