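import Cfsg.Agent.U6.MaxI

/-! The centraliser of a maximal intersection is transitive on the cosets. -/

set_option autoImplicit false

namespace Cfsg.Agent.U6

open Subgroup Cfsg.Agent.Local

variable {X : Type*} [Group X] [Finite X] {A H H0 : Subgroup X}

theorem Hyp.mem_of_le (hy : Hyp A H H0) (hSE : SE H) {g : X} (hg : MaxInt A H g) {k c : X}
    (hk : A ⊓ cj' A g ≤ cj' A k) (hc : c ∈ cj' A k) (hH : c ∈ H) : c ∈ A := by
  by_cases h : k ∈ H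
  · obtain ⟨a, ha, rfl⟩ := hc
    exact hy.conj_mem h ha
  · exact hy.maxInt hSE ⟨h, fun g' h' => (hg.2 g' h').trans (card_le_of_le (le_inf inf_le_left hk))⟩
      ⟨hc, hH⟩

omit [Finite X] in
theorem conj_pow_inv {ρ a : X} (h : a * ρ⁻¹ = ρ * a) (i : ℕ) :
    ρ ^ i * a * (ρ ^ i)⁻¹ = ρ ^ (2 * i) * a := by
  have h1 := SemiconjBy.pow_right h i
  rw [mul_assoc, ← inv_pow, h1.eq, ← mul_assoc, ← pow_add, two_mul]

theorem Hyp.dih (hy : Hyp A H H0) (hSE : SE H) {g : X} (hg : MaxInt A H g) {a b : X}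
    (ha : a ∈ A) (ha1 : a ∉ cj' A g) (hb : b ∈ cj' A g) (hb1 : b ∉ A) :
    ∃ y, (∀ d ∈ A ⊓ cj' A g, y * d = d * y) ∧ y * a * y⁻¹ * b ∈ A ⊓ cj' A g := by
  classical
  have ai := hy.inv_eq ha
  have bi : b⁻¹ = b := inv_eq_of_mul_eq_one_right (hy.sq' hb)
  obtain ⟨ρ, hρ⟩ : ∃ ρ, ρ = a * b := ⟨_, rfl⟩
  have h1 := conj_pow_inv (ρ := ρ) (a := a) (by rw [hρ, mul_inv_rev, ai, bi, mul_assoc])
  have h2 := conj_pow_inv (ρ := ρ) (a := b) (by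
    rw [hρ, mul_inv_rev, ai, bi, ← mul_assoc, hy.sq' hb, mul_assoc a, hy.sq' hb, one_mul, mul_one])
  have hc : ∀ i : ℕ, ∀ d ∈ A ⊓ cj' A g, ρ ^ i * d = d * ρ ^ i := fun i d hd =>
    Commute.pow_left (hρ ▸ Commute.mul_left (hy.comm ha hd.1) (hy.comm' hb hd.2)) i
  have hex : ∃ m, 0 < m ∧ ρ ^ m ∈ A ⊓ cj' A g :=
    ⟨orderOf ρ, orderOf_pos ρ, by rw [pow_orderOf_eq_one]; exact one_mem _⟩
  obtain ⟨m0, hm⟩ := Nat.find_spec hex
  have hmin := fun j => Nat.find_min hex (m := j)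
  obtain ⟨j, hj | hj⟩ := Nat.even_or_odd' (Nat.find hex) <;> rw [hj] at hm m0 hmin
  swap
  · exact ⟨ρ ^ j, hc j, by rwa [h1, mul_assoc, ← hρ, ← pow_succ]⟩
  exfalso
  have hA1 : A ⊓ cj' A g ≤ cj' A 1 := by rw [cj_one]; exact inf_le_left
  have hz : ρ ^ j ∈ H := by
    simpa using hg.mem hA1 (hy.conj_le (hc j) 1 hA1) (x := ρ ^ j * a * (ρ ^ j)⁻¹)
      (by rw [cj_one, h1]; exact mul_mem hm.1 ha) (mem_cj'.2 (by simpa [mul_assoc] using ha))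
      fun e => ha1 ((Subgroup.mul_mem_cancel_left _ hm.2).1 (h1 j ▸ e.2))
  have hz' : g⁻¹ * (ρ ^ j * g) ∈ H :=
    hg.mem inf_le_right (hy.conj_le (hc j) g inf_le_right) (x := ρ ^ j * b * (ρ ^ j)⁻¹)
      (by rw [h2]; exact mul_mem hm.2 hb) (mem_cj'.2 (by simpa [mul_assoc] using mem_cj'.1 hb))
      fun e => hb1 ((Subgroup.mul_mem_cancel_left _ hm.1).1 (h2 j ▸ e.1))
  have h3 : ρ ^ j * a ∈ A := by
    have h3 := mul_mem hz (hy.le1 (hy.le0 ha))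
    obtain ⟨i, rfl | rfl⟩ := Nat.even_or_odd' j
    · exact hy.mem_of_le hSE hg (hy.conj_le (hc i) 1 hA1)
        (mem_cj'.2 (by rw [← h1]; simpa [mul_assoc] using ha)) h3
    · have h4 : ρ ^ (2 * i + 1) * a = ρ ^ (i + 1) * b * (ρ ^ (i + 1))⁻¹ := by
        rw [h2, show 2 * (i + 1) = 2 * i + 1 + 1 by ring, pow_succ ρ (2 * i + 1), mul_assoc, hρ,
          mul_assoc a, hy.sq' hb, mul_one]
      exact hy.mem_of_le hSE hg (hy.conj_le (hc (i + 1)) g inf_le_right)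
        (mem_cj'.2 (by rw [h4]; simpa [mul_assoc] using mem_cj'.1 hb)) h3
  rw [mul_mem_cancel_right ha] at h3
  exact hmin j (by omega) ⟨by omega, h3, mem_cj'.2 (hy.maxInt hSE hg.inv
    ⟨mem_cj'.2 (by simpa [mul_assoc] using h3), by rwa [mul_assoc]⟩)⟩

theorem Hyp.trans (hy : Hyp A H H0) (hSE : SE H) {g : X} (hg : MaxInt A H g) {a a' : X}
    (ha : a ∈ A) (ha1 : a ∉ cj' A g) (ha' : a' ∈ A) (ha1' : a' ∉ cj' A g) :
    ∃ y ∈ H, (∀ d ∈ A ⊓ cj' A g, y * d = d * y) ∧ y * a * y⁻¹ * a' ∈ A ⊓ cj' A g := by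
  have hle : ¬ cj' A g ≤ A := fun h => hg.1 (by
    rw [hy.norm]
    exact mem_normalizer_of_conj_mem fun a ha => h ⟨a, ha, rfl⟩)
  obtain ⟨b, hb, hb1⟩ := SetLike.not_le_iff_exists.1 hle
  obtain ⟨y, c1, h1⟩ := hy.dih hSE hg ha ha1 hb hb1
  obtain ⟨z, c2, h2⟩ := hy.dih hSE hg ha' ha1' hb hb1
  have hc : ∀ d ∈ A ⊓ cj' A g, z⁻¹ * y * d = d * (z⁻¹ * y) := fun d hd =>
    Commute.mul_left (Commute.inv_left (c2 d hd)) (c1 d hd)
  have h3 : z⁻¹ * y * a * (z⁻¹ * y)⁻¹ * a' ∈ A ⊓ cj' A g := by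
    have h3 := mul_mem h1 (inv_mem h2)
    have h4 := c2 _ h3
    rw [← inv_mul_cancel_left z (y * a * y⁻¹ * b * _), h4] at h3
    convert h3 using 1
    nth_rewrite 1 [← hy.inv_eq ha']
    group
  have hA1 : A ⊓ cj' A g ≤ cj' A 1 := by rw [cj_one]; exact inf_le_left
  refine ⟨_, ?_, hc, h3⟩
  simpa using hg.mem hA1 (hy.conj_le hc 1 hA1) (x := z⁻¹ * y * a * (z⁻¹ * y)⁻¹)
    (by rw [cj_one]; exact (mul_mem_cancel_right ha').1 h3.1)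
    (mem_cj'.2 (by simpa [mul_assoc] using ha))
    fun e => ha1' ((Subgroup.mul_mem_cancel_left _ e.2).1 h3.2)

end Cfsg.Agent.U6
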