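import Cfsg.Agent.U6.Hyper

/-! Control of fusion by a strongly `3`-embedded subgroup. -/

set_option autoImplicit false

namespace Cfsg.Agent.U6

open Subgroup Cfsg.Agent.Local

variable {X : Type*} [Group X] [Finite X] {A H H0 : Subgroup X}

theorem fusion (hSE : SE H) {a b g : X} (ha : ∃ y ∈ H, orderOf y = 3 ∧ y * a = a * y)
    (hb : ∃ y ∈ H, orderOf y = 3 ∧ y * b = b * y) (hg : g * a * g⁻¹ = b) :
    ∃ h ∈ H, h * a * h⁻¹ = b := by
  have := Fact.mk Nat.prime_three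
  obtain ⟨y0, h0, o0, c0⟩ := ha
  obtain ⟨y, h1, o1, c1⟩ := hb
  obtain ⟨P, hP, hyP⟩ := exists_isSylowIn_ge (N := centralizer {b}) (isPGroup_zpowers_of_orderOf_eq o1)
    (zpowers_le_of_mem (mem_centralizer_singleton_iff.2 c1))
  have hy : y ∈ P := hyP (mem_zpowers y)
  obtain ⟨z, -, oz, hz⟩ := LinP.exists_central_of_normal hP.isPGroup ⊤ fun e =>
    ne_one_of_orderOf_eq_prime Nat.prime_three o1
      (Subtype.ext_iff.1 (mem_bot.1 (e.le (mem_top (⟨y, hy⟩ : P)))))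
  have hc : ∀ x ∈ P, x * z = z * x := fun x hx => congrArg Subtype.val (mem_center_iff.1 hz ⟨x, hx⟩)
  have hzH : (z : X) ∈ H := hSE z y o1 h1 (by rwa [mul_assoc, hc y hy, inv_mul_cancel_left])
  have hPH : P ≤ H := fun x hx => hSE x z ((orderOf_coe z).trans oz) hzH
    (by rwa [mul_assoc, ← hc x hx, inv_mul_cancel_left])
  have o2 : orderOf (g * y0 * g⁻¹) = 3 := (M11.orderOf_conj' g y0).trans o0
  obtain ⟨n, hn, hn'⟩ := hP.exists_le_conj (isPGroup_zpowers_of_orderOf_eq o2)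
    (zpowers_le_of_mem (mem_centralizer_singleton_iff.2 (by
      rw [← hg]
      calc g * y0 * g⁻¹ * (g * a * g⁻¹) = g * (y0 * a) * g⁻¹ := by group
        _ = _ := by rw [c0]; group)))
  have h2 := hPH (mem_conj_smul_iff.1 (hn' (mem_zpowers _)))
  refine ⟨n⁻¹ * g, hSE _ (n⁻¹ * g * y0 * (n⁻¹ * g)⁻¹) ((M11.orderOf_conj' _ y0).trans o0)
    (by convert h2 using 1; group) (by convert h0 using 1; group), ?_⟩
  calc n⁻¹ * g * a * (n⁻¹ * g)⁻¹ = n⁻¹ * (g * a * g⁻¹ * n) := by group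
    _ = b := by rw [hg, ← mem_centralizer_singleton_iff.1 hn, inv_mul_cancel_left]

end Cfsg.Agent.U6
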