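import Cfsg.Agent.U6.Fus
import Cfsg.Agent.Mat.Two

/-! Maximal intersections of conjugates of `A`. -/

set_option autoImplicit false

namespace Cfsg.Agent.U6

open Subgroup Cfsg.Agent.Local

variable {X : Type*} [Group X] [Finite X] {A H H0 : Subgroup X}

omit [Finite X] in
theorem mem_cj' {g x : X} : x ∈ cj' A g ↔ g⁻¹ * x * g ∈ A := mem_conj_smul_iff

omit [Finite X] in
theorem card_cj_inf (A B : Subgroup X) (g k : X) :
    Nat.card ↥(cj' A g ⊓ cj' B k) = Nat.card ↥(A ⊓ cj' B (g⁻¹ * k)) := by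
  rw [← card_map_of_injective (K := A ⊓ cj' B (g⁻¹ * k)) (f := (MulAut.conj g).toMonoidHom)
    (MulAut.conj g).injective]
  congr 2
  ext x
  rw [mem_inf, mem_cj', mem_cj', mem_cj', mem_inf, mem_cj']
  simp [mul_assoc]

omit [Finite X] in
theorem cj_one (A : Subgroup X) : cj' A 1 = A := by
  ext x
  simp [mem_cj']

omit [Finite X] in
theorem card_inf_cj (A B : Subgroup X) (g : X) :
    Nat.card ↥(A ⊓ cj' B g) = Nat.card ↥(cj' A g⁻¹ ⊓ B) := by
  simpa [cj_one] using (card_cj_inf A B g⁻¹ 1).symm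

omit [Finite X] in
theorem card_inf_inv (A : Subgroup X) (g : X) :
    Nat.card ↥(A ⊓ cj' A g⁻¹) = Nat.card ↥(A ⊓ cj' A g) := by
  rw [card_inf_cj A A g, inf_comm]

omit [Finite X] in
theorem MaxInt.inv {g : X} (hg : MaxInt A H g) : MaxInt A H g⁻¹ :=
  ⟨fun e => hg.1 (inv_mem_iff.1 e), fun g' h => (card_inf_inv A g).symm ▸ hg.2 g' h⟩

/-- two conjugates of `A` properly containing the maximal intersection are equal -/
theorem MaxInt.mem {g : X} (hg : MaxInt A H g) {k l x : X} (h1 : A ⊓ cj' A g ≤ cj' A k)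
    (h2 : A ⊓ cj' A g ≤ cj' A l) (hk : x ∈ cj' A k) (hl : x ∈ cj' A l) (hx : x ∉ A ⊓ cj' A g) :
    k⁻¹ * l ∈ H := by
  by_contra hn
  have h3 := hg.2 _ hn
  rw [← card_cj_inf] at h3
  exact hx ((eq_of_le_of_card_ge (le_inf h1 h2) h3).ge ⟨hk, hl⟩)

omit [Finite X] in
theorem Hyp.conj_mem (hy : Hyp A H H0) {h a : X} (hh : h ∈ H) (ha : a ∈ A) : h * a * h⁻¹ ∈ A :=
  conj_mem_of_mem_normalizer (hy.norm ▸ hh) ha

omit [Finite X] in
theorem Hyp.inv_eq (hy : Hyp A H H0) {a : X} (ha : a ∈ A) : a⁻¹ = a :=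
  inv_eq_of_mul_eq_one_right (hy.sq a ha)

omit [Finite X] in
theorem Hyp.sq' (hy : Hyp A H H0) {g x : X} (hx : x ∈ cj' A g) : x * x = 1 := by
  obtain ⟨a, ha, rfl⟩ := hx
  rw [← map_mul, hy.sq a ha, map_one]

theorem Hyp.comm' (hy : Hyp A H H0) {g x y : X} (hx : x ∈ cj' A g) (hy' : y ∈ cj' A g) :
    x * y = y * x := by
  obtain ⟨a, ha, rfl⟩ := hx
  obtain ⟨b, hb, rfl⟩ := hy'
  rw [← map_mul, ← map_mul, hy.comm ha hb]

theorem Hyp.conj_le (hy : Hyp A H H0) {g c : X} (hc : ∀ d ∈ A ⊓ cj' A g, c * d = d * c) (k : X)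
    (hk : A ⊓ cj' A g ≤ cj' A k) : A ⊓ cj' A g ≤ cj' A (c * k) := fun d hd => by
  have h1 := mem_cj'.1 (hk hd)
  rw [mem_cj', mul_inv_rev, show k⁻¹ * c⁻¹ * d * (c * k) = k⁻¹ * (c⁻¹ * (d * c)) * k by group,
    ← hc d hd, inv_mul_cancel_left]
  exact h1

theorem Hyp.lower (hy : Hyp A H H0) {g : X} (hg : MaxInt A H g) {x : X} (hx : x ∈ cj' A g)
    (hxH : x ∈ H) (hxA : x ∉ A) :
    2 ^ 20 * Nat.card ↥(A ⊓ cj' A g) ≤ Nat.card ↥(cj' A g⁻¹ ⊓ H) * cN A x := by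
  have hxx : x⁻¹ = x := inv_eq_of_mul_eq_one_right (hy.sq' hx)
  let φ : A →* X := MonoidHom.mk' (fun a => a * (x * (a : X)⁻¹ * x⁻¹)) fun a b => by
    have h1 := hy.comm (hy.conj_mem hxH (inv_mem a.2)) b.2
    have h2 := hy.comm a.2 b.2
    simp only [coe_mul]
    calc (a : X) * b * (x * ((a : X) * b)⁻¹ * x⁻¹) = a * b * (x * ((b : X) * a)⁻¹ * x⁻¹) := by rw [h2]
      _ = a * (b * (x * (a : X)⁻¹ * x⁻¹)) * (x * (b : X)⁻¹ * x⁻¹) := by group
      _ = _ := by rw [← h1]; group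
  have hφ : ∀ a, φ a = a * (x * (a : X)⁻¹ * x⁻¹) := fun _ => rfl
  have h1 : φ.range ≤ A ⊓ centralizer {x} := by
    rintro _ ⟨a, rfl⟩
    refine ⟨mul_mem a.2 (hy.conj_mem hxH (inv_mem a.2)), mem_centralizer_singleton_iff.2 ?_⟩
    have h2 := hy.comm a.2 (hy.conj_mem hxH a.2)
    rw [hφ, hy.inv_eq a.2, h2]
    nth_rewrite 2 [← h2]
    rw [hxx]
    calc x * a * x * a * x = x * (a * (x * a * x)) := by group
      _ = _ := rfl
  have h2 : A ⊓ cj' A g ≤ A ⊓ centralizer {x} := fun d hd =>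
    ⟨hd.1, mem_centralizer_singleton_iff.2 (hy.comm' hd.2 hx)⟩
  have h3 := relIndex_le_of_le_right (H := A ⊓ cj' A g) h1 index_ne_zero_of_finite
  have h4 := ((A ⊓ cj' A g).comap φ).card_mul_index
  have h5 : ((A ⊓ cj' A g).comap φ).map A.subtype ≤ A ⊓ cj' H g := by
    rintro _ ⟨a, ha, rfl⟩
    refine ⟨a.2, mem_cj'.2 ?_⟩
    have h6 : (a : X) * x * (a : X)⁻¹ ∈ cj' A g := by
      have := mul_mem (mem_comap.1 ha).2 hx
      rwa [hφ, ← mul_assoc, ← mul_assoc, inv_mul_cancel_right] at this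
    rw [mul_assoc]
    exact hg.mem inf_le_right (hy.conj_le (fun d hd => hy.comm a.2 hd.1) g inf_le_right) h6
      (mem_cj'.2 (by convert mem_cj'.1 hx using 1; rw [subtype_apply]; group))
      fun e => hxA (by convert mul_mem (mul_mem (inv_mem a.2) e.1) a.2 using 1; group)
  have h6 := card_le_of_le h5
  rw [card_map_of_injective A.subtype_injective, card_inf_cj] at h6
  rw [index_comap] at h4
  rw [← hy.card, ← h4, cN, ← card_mul_relIndex h2, mul_assoc, mul_comm (relIndex _ _)]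
  exact Nat.mul_le_mul h6 (Nat.mul_le_mul_left _ h3)

theorem Hyp.half (hy : Hyp A H H0) (g : X) :
    Nat.card ↥(cj' A g ⊓ H) ≤ 2 * Nat.card ↥(cj' A g ⊓ H0) := by
  have h1 : H0.relIndex (cj' A g ⊓ H) ∣ 2 := by
    rw [relIndex_dvd_two_iff]
    by_cases h : cj' A g ⊓ H ≤ H0
    · exact ⟨1, one_mem _, fun b hb => Or.inr (h hb)⟩
    · obtain ⟨a, ha, ha'⟩ := SetLike.not_le_iff_exists.1 h
      exact ⟨a, ha, fun b hb => (em (b ∈ H0)).symm.imp_left (hy.idx b hb.2 a ha.2 · ha')⟩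
  rw [← card_inf_mul_relIndex H0, mul_comm, inf_comm H0, inf_assoc, inf_eq_right.2 hy.le1]
  exact Nat.mul_le_mul_right _ (Nat.le_of_dvd two_pos h1)

theorem Hyp.not_three (hy : Hyp A H H0) (hSE : SE H) {g x : X} (hx : x ∈ cj' A g) (hxA : x ∉ A) :
    ¬ ∃ y ∈ H, orderOf y = 3 ∧ y * x = x * y := fun h => by
  obtain ⟨a, ha, rfl⟩ := hx
  obtain ⟨k, hk, e⟩ := fusion hSE (hy.three a ha) h (g := g) rfl
  exact hxA (e ▸ hy.conj_mem hk ha)

theorem Hyp.upper (hy : Hyp A H H0) (hSE : SE H) (g : X) :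
    Nat.card ↥(cj' A g ⊓ H0) ≤ 16 * Nat.card ↥(A ⊓ cj' A g) := by
  classical
  obtain ⟨Ω, hc, hA, hn, hb⟩ := hy.bad
  have hle : A ⊓ cj' A g ≤ cj' A g ⊓ H0 := fun d hd => ⟨hd.2, hy.le0 hd.1⟩
  have h1 := Mat.card_dvd_sum_fixed (R := cj' A g ⊓ H0) (X := Ω) fun r hr u hu => hn r hr.2 u hu
  set T := (Set.toFinite ((cj' A g ⊓ H0 : Subgroup X) : Set X)).toFinset
  have hm : ∀ r, r ∈ T ↔ r ∈ cj' A g ⊓ H0 := fun x => Set.Finite.mem_toFinset _
  have h2 : ∀ r ∈ T, {u | u ∈ (Ω : Set X) ∧ Commute u r}.ncard = 75 + if r ∈ A then 816 else 0 := by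
    intro r hr
    rw [hm] at hr
    split_ifs with h
    · rw [show {u | u ∈ (Ω : Set X) ∧ Commute u r} = Ω from
        Set.ext fun u => and_iff_left_of_imp fun hu => hy.comm (hA u hu) h, Set.ncard_coe_finset, hc]
    · rw [add_zero, ← ((hb r hr.2 h (hy.sq' hr.1)).resolve_left (hy.not_three hSE hr.1 h)).2,
        ← Nat.card_coe_set_eq]
      exact Nat.card_congr (Equiv.subtypeEquivRight fun u => and_congr_right fun _ => by
        rw [mul_inv_eq_iff_eq_mul, eq_comm]; rfl)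
  have h3 : T.card = Nat.card ↥(cj' A g ⊓ H0) := by
    rw [← Set.ncard_eq_toFinset_card _ _, ← Nat.card_coe_set_eq]; rfl
  have h4 : (T.filter (· ∈ A)).card = Nat.card ↥(A ⊓ cj' A g) := by
    rw [← Set.ncard_coe_finset, ← Nat.card_coe_set_eq]
    exact Nat.card_congr (Equiv.subtypeEquivRight fun u => by
      rw [Finset.mem_coe, Finset.mem_filter, hm]
      exact ⟨fun h => ⟨h.2, h.1.1⟩, fun h => ⟨hle h, h.1⟩⟩)
  rw [Finset.sum_congr rfl h2, Finset.sum_add_distrib, ← Finset.sum_filter, Finset.sum_const,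
    Finset.sum_const, h3, h4, smul_eq_mul, smul_eq_mul, Nat.dvd_add_right (dvd_mul_right _ _),
    ← card_mul_relIndex hle, Nat.mul_dvd_mul_iff_left Nat.card_pos] at h1
  have h5 : (A ⊓ cj' A g).relIndex (cj' A g ⊓ H0) ∣ 2 ^ 20 := by
    rw [← hy.card, ← card_map_of_injective (K := A) (f := (MulAut.conj g).toMonoidHom)
      (MulAut.conj g).injective]
    exact (relIndex_dvd_card _ _).trans (card_dvd_of_le inf_le_left)
  rw [← card_mul_relIndex hle, mul_comm]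
  exact Nat.mul_le_mul_right _ (Nat.le_of_dvd (by norm_num)
    (by simpa using Nat.dvd_gcd h1 h5))

theorem Hyp.maxInt (hy : Hyp A H H0) (hSE : SE H) {g : X} (hg : MaxInt A H g) :
    cj' A g ⊓ H ≤ A := by
  intro x hx
  by_contra hxA
  have hd : 0 < Nat.card ↥(A ⊓ cj' A g) := Nat.card_pos
  have h1 := (hy.lower hg hx.1 hx.2 hxA).trans (Nat.mul_le_mul_left _ (hy.codim x hx.2 hxA))
  have h2 := hy.half g⁻¹
  have h3 : ¬ cj' A g⁻¹ ⊓ H0 ≤ A := fun e => by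
    have := card_le_of_le (le_inf e inf_le_left)
    rw [card_inf_inv] at this
    omega
  obtain ⟨z, hz, hzA⟩ := SetLike.not_le_iff_exists.1 h3
  obtain ⟨Ω, -, -, -, hb⟩ := hy.bad
  have h4 := (hy.lower hg.inv hz.1 (hy.le1 hz.2) hzA).trans (Nat.mul_le_mul_left _
    ((hb z hz.2 hzA (hy.sq' hz.1)).resolve_left (hy.not_three hSE hz.1 hzA)).1)
  rw [inv_inv, card_inf_inv] at h4
  have h5 := hy.half g
  have h6 := hy.upper hSE g
  omega

end Cfsg.Agent.U6
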