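import Cfsg.Agent.U6.Data

/-! Tables for the weights of the diagonal subgroup. -/

set_option autoImplicit false
set_option maxRecDepth 100000

namespace Cfsg.Agent.U6

open Equiv

/-- exponent vectors -/
abbrev Ex := Fin 6 → ZMod 3

/-- the sum of the entries -/
def sg (d : Ex) : ZMod 3 := d 0 + d 1 + d 2 + d 3 + d 4 + d 5

/-- the pairing -/
def chi (a d : Ex) : ZMod 3 :=
  a 0 * d 0 + a 1 * d 1 + a 2 * d 2 + a 3 * d 3 + a 4 * d 4 + a 5 * d 5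

/-- representatives of the characters up to sign -/
def ch : Fin 40 → Ex := ![![1,1,1,0,0,0], ![1,1,0,1,0,0], ![1,1,0,0,1,0], ![1,1,0,0,0,1], ![1,0,1,1,0,0], ![1,0,1,0,1,0], ![1,0,1,0,0,1], ![1,0,0,1,1,0], ![1,0,0,1,0,1], ![0,1,1,1,0,0], ![1,2,0,0,0,0], ![0,2,1,0,0,0], ![0,2,0,1,0,0], ![0,2,0,0,1,0], ![0,2,0,0,0,1], ![1,0,2,0,0,0], ![1,0,0,2,0,0], ![1,0,0,0,2,0], ![1,0,0,0,0,2], ![0,0,1,2,0,0], ![0,0,1,0,2,0], ![0,0,1,0,0,2], ![0,0,0,1,2,0], ![0,0,0,1,0,2], ![0,0,0,0,1,2], ![1,1,2,2,0,0], ![2,1,1,2,0,0], ![2,1,2,1,0,0], ![0,1,2,2,1,0], ![0,1,2,2,0,1], ![1,1,0,2,2,0], ![1,1,0,2,0,2], ![0,1,1,2,2,0], ![0,1,1,2,0,2], ![2,0,1,2,1,0], ![2,0,1,2,0,1], ![0,1,2,1,2,0], ![0,1,2,1,0,2], ![2,0,2,1,1,0], ![2,0,2,1,0,1]]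

/-- permutations producing the characters from three of them -/
def rp : Fin 40 → Perm (Fin 6) := ![1, swap 2 3, swap 2 4, swap 2 5, swap 1 3, swap 1 4, swap 1 5, swap 2 4 * swap 1 3, swap 2 5 * swap 1 3, swap 0 3, 1, swap 0 2, swap 0 3, swap 0 4, swap 0 5, swap 1 2, swap 1 3, swap 1 4, swap 1 5, swap 1 3 * swap 0 2, swap 1 4 * swap 0 2, swap 1 5 * swap 0 2, swap 1 4 * swap 0 3, swap 1 5 * swap 0 3, swap 1 5 * swap 0 4, 1, swap 0 2, swap 0 3, swap 0 4, swap 0 5, swap 2 4, swap 2 5, swap 0 4 * swap 0 2, swap 0 5 * swap 0 2, swap 1 4 * swap 0 2, swap 1 5 * swap 0 2, swap 0 4 * swap 0 3, swap 0 5 * swap 0 3, swap 1 4 * swap 0 3, swap 1 5 * swap 0 3]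

/-- the first character of the orbit -/
def ba (k : Fin 40) : Fin 40 := if k.1 < 10 then 0 else if k.1 < 25 then 10 else 25

/-- elements of weight one -/
def ek : Fin 10 → Ex := ![![1,0,0,2,0,0], ![1,0,2,0,0,0], ![1,0,2,0,0,0], ![1,0,2,0,0,0], ![1,2,0,0,0,0], ![1,2,0,0,0,0], ![1,2,0,0,0,0], ![1,2,0,0,0,0], ![1,2,0,0,0,0], ![2,1,0,0,0,0]]

/-- action of the generators on the weight spaces -/
def kt : Fin 7 → Fin 10 → Fin 10 := ![![0,1,2,3,9,8,7,6,5,4], ![0,4,5,6,1,2,3,7,8,9], ![1,0,2,3,4,7,8,5,6,9], ![0,2,1,3,5,4,6,7,9,8], ![0,1,3,2,4,6,5,8,7,9], ![0,1,3,2,4,6,5,8,7,9], ![0,1,2,3,9,8,7,6,5,4]]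

/-- diagonal parts of the generators -/
def gd : Fin 7 → Ex := ![0, 0, 0, 0, 0, ![0,0,0,0,2,1], ![2,1,0,0,0,0]]

/-- permutation parts of the generators -/
def gs : Fin 7 → Perm (Fin 6) :=
  ![swap 0 1, swap 1 2, swap 2 3, swap 3 4, swap 4 5, swap 4 5, swap 0 1]

/-- the swap of the two halves -/
def sig : Perm (Fin 6) := swap 0 3 * swap 1 4 * swap 2 5

/-- the stabilizer of the partition -/
def st72 : List (Perm (Fin 6)) :=
  [1, swap 0 1, swap 1 2, swap 0 1 * swap 1 2, swap 1 2 * swap 0 1,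
    swap 0 1 * swap 1 2 * swap 0 1].flatMap fun a =>
  [1, swap 3 4, swap 4 5, swap 3 4 * swap 4 5, swap 4 5 * swap 3 4,
    swap 3 4 * swap 4 5 * swap 3 4].flatMap fun b => [a * b, a * b * sig]

/-- the code of a power of the cube root of unity -/
def cval (c : ZMod 3) : ℕ := c.val + 1

/-- the first ten indices -/
def up (k : Fin 10) : Fin 40 := ⟨k.1, by omega⟩

theorem ch_sg : ∀ k, sg (ch k) = 0 := by decide +kernel

theorem ch_rp : ∀ k i, ch k i = ch (ba k) ((rp k)⁻¹ i) := by decide +kernel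

theorem ch_sep : ∀ j k, j ≠ k → ∃ t, chi (ch j) (ch t) = 0 ∧ chi (ch k) (ch t) ≠ 0 := by
  decide +kernel

theorem ch_nz : ∀ k, ∃ t, chi (ch k) (ch t) ≠ 0 := by decide +kernel

theorem ch_par : ∀ x0 x1 x2 x3 x4 x5 : ZMod 3, sg ![x0, x1, x2, x3, x4, x5] = 0 →
    (Finset.univ.filter fun k => chi (ch k) ![x0, x1, x2, x3, x4, x5] = 0).card =
      if x0 = x1 ∧ x0 = x2 ∧ x0 = x3 ∧ x0 = x4 ∧ x0 = x5 then 40 else 13 := by decide +kernel

theorem ek_ok : ∀ k, sg (ek k) = 0 ∧ chi (ch (up k)) (ek k) = 1 := by decide +kernel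

theorem gd_sg : ∀ t, sg (gd t) = 0 := by decide +kernel

theorem gen_st : ∀ t k, (rp (up (kt t k)))⁻¹ * gs t * rp (up k) ∈ st72 := by decide +kernel

theorem gen_row : ∀ t : Fin 7, ∀ k : Fin 10,
    row (tm t) (2 * k) = cval (chi (ch (up (kt t k))) (gd t)) * 4 ^ (kt t k).1 ∧
    row (tm t) (2 * k + 1) =
      cval (chi (ch (up (kt t k))) (gd t + fun i => ek k ((gs t)⁻¹ i))) * 4 ^ (kt t k).1 := by
  decide +kernel

end Cfsg.Agent.U6
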