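import Cfsg.Agent.U6.ClsC
import Cfsg.Agent.U6.WtC

/-! Computations with the isotropic points. -/

set_option autoImplicit false
set_option maxRecDepth 100000

namespace Cfsg.Agent.U6

open Cfsg.Agent.Comp

noncomputable section

/-- a coordinate -/
def dig (c i : ℕ) : ℕ := lk[nat_lit 3, c, Nat.mul (nat_lit 2) i]

/-- multiplication of codes -/
def mulT (a b : ℕ) : ℕ :=
  lk[nat_lit 3, nat_lit 2625168384, Nat.mul (nat_lit 2) (Nat.add (Nat.mul (nat_lit 4) a) b)]

/-- conjugation of codes -/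
def cjT (a : ℕ) : ℕ := Nat.xor a (Nat.shiftRight a (nat_lit 1))

/-- the form on codes -/
def hfC (c c' : ℕ) : ℕ :=
  mulT (dig c 0) (cjT (dig c' 0)) ^^^ mulT (dig c 1) (cjT (dig c' 1)) ^^^
  mulT (dig c 2) (cjT (dig c' 2)) ^^^ mulT (dig c 3) (cjT (dig c' 3)) ^^^
  mulT (dig c 4) (cjT (dig c' 4)) ^^^ mulT (dig c 5) (cjT (dig c' 5))

theorem pt_iso : allR (fun i => Nat.beq (hfC (pt i) (pt i)) (nat_lit 0)) (nat_lit 0) (nat_lit 694)
    = true := by decide +kernel

/-- check of the search tree -/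
def parChk (i : ℕ) : Bool :=
  (fun w => Nat.ble (lt10 w 0) (nat_lit 7) &: Nat.ble (Nat.succ (lt10 w 1)) i &:
    all1 (fun t => Nat.beq (dig (pt i) t) (Nat.xor (dig (pt (lt10 w 1)) t)
      (mulT (hfC (pt (lt10 w 1)) (pt (lt10 w 0))) (dig (pt (lt10 w 0)) t))))
      (nat_lit 0) (nat_lit 6) &:
    Nat.beq (mul (tau (lt10 w 0)) (tau (lt10 w 1))) (mul (tau i) (tau (lt10 w 0))))
    lk[nat_lit 1048575, parT, Nat.mul (nat_lit 20) i]

theorem par_ok : allR parChk (nat_lit 8) (nat_lit 685) = true := by decide +kernel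

/-- check of the index table -/
def ixChk (c : ℕ) : Bool :=
  bor (Nat.beq c (nat_lit 0)) (bor (!Nat.beq (hfC c c) (nat_lit 0))
    ((fun e => Nat.ble (Nat.shiftRight e (nat_lit 2)) (nat_lit 692) &:
      Nat.ble (nat_lit 1) (dig e 0) &:
      all1 (fun t => Nat.beq (dig c t) (mulT (dig e 0) (dig (pt (Nat.shiftRight e (nat_lit 2))) t)))
        (nat_lit 0) (nat_lit 6))
      lk[nat_lit 4095, ixT, Nat.mul (nat_lit 12) c]))

theorem ix_ok : allR ixChk (nat_lit 0) (nat_lit 4096) = true := by decide +kernel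

/-- check of the conjugacy of the base transvections -/
def t1Chk (i : ℕ) : Bool :=
  (fun w => okL (lt10 w 0) &: okL (lt10 w 1) &:
    Nat.beq (mul (mul (tau (lt10 w 0)) (tau (lt10 w 1))) (tau 0))
      (mul (tau i) (mul (tau (lt10 w 0)) (tau (lt10 w 1)))))
    lk[nat_lit 1048575, t1T, Nat.mul (nat_lit 20) i]

theorem t1_ok : all1 t1Chk (nat_lit 0) (nat_lit 8) = true := by decide +kernel

theorem bc1 : mul bcB bcI = idM := by decide +kernel
theorem bc2 : mul bcI bcB = idM := by decide +kernel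
theorem bc3 : ∀ t, t < 8 → mul (tm t) bcB = mul bcB (tau t) := by decide +kernel

theorem tau693 : tau 693 = idM ∧ pt 693 = 0 := by decide +kernel

theorem dig_code : ∀ a0 a1 a2 a3 a4 a5 : Fin 4, ∀ i : Fin 6,
    dig (a0 + 4 * a1 + 16 * a2 + 64 * a3 + 256 * a4 + 1024 * a5) i =
      (![a0, a1, a2, a3, a4, a5] i : Fin 4) := by decide +kernel

theorem mono_ok : ∀ t : Fin 7, ∀ i j : Fin 6,
    (if i = j then 1 else 0) ^^^ mulT (cjT (dig (pt t) j)) (dig (pt t) i) =
      if (gs t)⁻¹ i = j then cval (gd t i) else 0 := by decide +kernel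

theorem rel_ok : (∀ s ∈ [0, 1, 2, 4, 5], hfC (pt s) (pt 7) = 0) ∧ hfC (pt 6) (pt 7) = 3 := by
  decide +kernel

theorem ncomm01 : ncomm (tau 0) (tau 1) = true := by decide +kernel

end

end Cfsg.Agent.U6
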